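import Groth.Agent.DCohLib.TensorLinv
import Groth.Agent.DCohLib.LTensorCongr

/-!
# Tensoring with a shift of the unit is a shift, naturally
-/

set_option autoImplicit false
set_option linter.style.haveILetI false
set_option linter.unusedSectionVars false
set_option backward.isDefEq.respectTransparency false
set_option maxHeartbeats 800000

universe u

open CategoryTheory CategoryTheory.Limits AlgebraicGeometry HomologicalComplex
open Groth.Agent.DCohLib

attribute [local instance] HasDerivedCategory.standard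

noncomputable section

namespace Groth.Agent.ShriekBridge

section Naturality

variable {C₁ C₂ D : Type*} [Category C₁] [Category C₂] [Category D] [Preadditive C₁] [Preadditive C₂] [Preadditive D]
  {K₁ L₁ : CochainComplex C₁ ℤ} (f₁ : K₁ ⟶ L₁) (K₂ : CochainComplex C₂ ℤ)
  (F : C₁ ⥤ C₂ ⥤ D) [F.Additive] [∀ (X₁ : C₁), (F.obj X₁).Additive] (y : ℤ)
  [CochainComplex.HasMapBifunctor K₁ K₂ F] [CochainComplex.HasMapBifunctor L₁ K₂ F]

set_option backward.defeqAttrib.useBackward true in
theorem shift₂Iso_hom_natural₁ :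
    mapBifunctorMap f₁ (𝟙 (K₂⟦y⟧)) F (.up ℤ) ≫ (CochainComplex.mapBifunctorShift₂Iso L₁ K₂ F y).hom =
      (CochainComplex.mapBifunctorShift₂Iso K₁ K₂ F y).hom ≫ (mapBifunctorMap f₁ (𝟙 K₂) F (.up ℤ))⟦y⟧' := by
  ext n p q h
  simp [CochainComplex.ι_mapBifunctorShift₂Iso_hom_f _ _ _ _ _ _ _ _ (q + y) (n + y) rfl rfl,
    CochainComplex.ι_mapBifunctorShift₂Iso_hom_f_assoc _ _ _ _ _ _ _ _ (q + y) (n + y) rfl rfl,
    ← NatTrans.naturality_assoc, CochainComplex.shiftFunctorObjXIso]

end Naturality

variable {X : Scheme.{u}}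

/-- Tensoring complexes with a shift of the unit. -/
def tensorShiftUnitIso (a n : ℤ) (h : n + a = 0) :
    DCoh.tensorCx.flip.obj (shiftUnitCx X a) ≅ shiftFunctor (CochainComplex X.Modules ℤ) n :=
  (DCoh.tensorCx (X := X)).flip.mapIso
      (((CochainComplex.singleFunctors X.Modules).shiftIso n a 0 h).app (Coh.structureModule X)).symm ≪≫
    NatIso.ofComponents
      (F := DCoh.tensorCx.flip.obj ((unitCx X)⟦n⟧))
      (G := DCoh.tensorCx.flip.obj (unitCx X) ⋙ shiftFunctor (CochainComplex X.Modules ℤ) n)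
      (fun K => CochainComplex.mapBifunctorShift₂Iso K (unitCx X) (DCoh.tensorBi (X := X)) n)
      (fun φ => shift₂Iso_hom_natural₁ φ (unitCx X) (DCoh.tensorBi (X := X)) n) ≪≫
    Functor.isoWhiskerRight tensorUnitCxIso _ ≪≫ Functor.leftUnitor _

/-- The derived tensor product with a shift of the unit is a shift. -/
def lTensorShiftUnitIso (a n : ℤ) (h : n + a = 0) [DCoh.HasLTensorCx (shiftUnitCx X a)] :
    DCoh.LTensorCx (shiftUnitCx X a) ≅ shiftFunctor (DCoh.D X) n :=
  letI : Localization.Lifting DerivedCategory.Q (HomologicalComplex.quasiIso X.Modules (ComplexShape.up ℤ))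
      (DCoh.tensorCxQ (shiftUnitCx X a)) (DCoh.LTensorCx (shiftUnitCx X a)) :=
    ⟨lTensorQIso (shiftUnitCx X a) (isKFlat_of_strictlyPerfect (isStrictlyPerfect_shiftUnitCx a))⟩
  letI : Localization.Lifting DerivedCategory.Q (HomologicalComplex.quasiIso X.Modules (ComplexShape.up ℤ))
      (shiftFunctor (CochainComplex X.Modules ℤ) n ⋙ DerivedCategory.Q) (shiftFunctor (DCoh.D X) n) :=
    ⟨(DerivedCategory.Q.commShiftIso n).symm⟩
  Localization.liftNatIso DerivedCategory.Q (HomologicalComplex.quasiIso X.Modules (ComplexShape.up ℤ))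
    (DCoh.tensorCxQ (shiftUnitCx X a)) (shiftFunctor (CochainComplex X.Modules ℤ) n ⋙ DerivedCategory.Q) _ _
    (Functor.isoWhiskerRight (tensorShiftUnitIso a n h) _)

end Groth.Agent.ShriekBridge
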