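import Groth.Agent.ShriekBridge.GorBC
import Groth.Agent.ShriekBridge.ShiftTensor
import Groth.Agent.GorLib.Ring
import Groth.Agent.ASp.GeomRedEt
import Groth.Agent.ProjSmoothLib.Basic
import Groth.Agent.TwistShriek.ShriekIndep
import Groth.Agent.FMKLib.NatPF
import Groth.Agent.S3600
import Groth.Agent.S7865
import Mathlib.AlgebraicGeometry.AffineSpace

/-!
# The upper shriek of the affine line
-/

set_option autoImplicit false
set_option linter.style.haveILetI false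
set_option linter.unusedSectionVars false
set_option backward.isDefEq.respectTransparency false
set_option maxHeartbeats 1600000

universe u

open CategoryTheory CategoryTheory.Limits AlgebraicGeometry
open Groth.Agent.DCohLib Groth.Agent.DCohMore Groth.Agent.TwistShriek Groth.Agent.FMKLib

attribute [local instance] HasDerivedCategory.standard

noncomputable section

namespace Groth.Agent.ShriekBridge

/-- Smooth morphisms are Gorenstein. -/
theorem isGorensteinMor_of_smooth {X S : Scheme.{u}} (f : X ⟶ S) [Smooth f] : Dual3.IsGorensteinMor f := by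
  intro x
  refine ⟨Flat.stalkMap f x, ?_⟩
  haveI : Smooth (f.fiberToSpecResidueField (f x)) :=
    MorphismProperty.pullback_snd (P := @Smooth) _ _ ‹Smooth f›
  haveI : IsRegularLocalRing ((f.fiber (f x)).presheaf.stalk (f.asFiber x)) :=
    ASp.isRegularLocalRing_stalk_of_smooth_field (k := S.residueField (f x)) (f.fiberToSpecResidueField (f x)) _
  exact GorLib.gorensteinLocal_of_regular _


/-- The affine line over the integers as the chart of the projective line. -/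
def lineToProj : AffineSpace (ULift.{u} (Fin 1)) (Spec (CommRingCat.of (ULift.{u} ℤ))) ⟶ (CohB1.ProjSpace 1 (ULift.{u} ℤ)) :=
  (AffineSpace.SpecIso (ULift.{u} (Fin 1)) (CommRingCat.of (ULift.{u} ℤ))).hom ≫
    Spec.map (CommRingCat.ofHom (MvPolynomial.renameEquiv (ULift.{u} ℤ) (Equiv.ulift : (ULift.{u} (Fin 1)) ≃ Fin 1)).symm.toRingEquiv.toRingHom) ≫
      chartP 1 (ULift.{u} ℤ)

theorem lineToProj_toSpec : lineToProj.{u} ≫ (CohB1.ProjSpace.toSpec 1 (ULift.{u} ℤ)) = AffineSpace (ULift.{u} (Fin 1)) (Spec (CommRingCat.of (ULift.{u} ℤ))) ↘ _ := by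
  rw [lineToProj, Category.assoc, Category.assoc, chartP_toSpec, ← Spec.map_comp, ← CommRingCat.ofHom_comp,
    ← cancel_epi (AffineSpace.SpecIso (ULift.{u} (Fin 1)) (CommRingCat.of (ULift.{u} ℤ))).inv, Iso.inv_hom_id_assoc, AffineSpace.SpecIso_inv_over]
  congr 2
  exact RingHom.ext fun r => MvPolynomial.rename_C _ r

instance : IsIso (Spec.map (CommRingCat.ofHom
    (MvPolynomial.renameEquiv (ULift.{u} ℤ) (Equiv.ulift : (ULift.{u} (Fin 1)) ≃ Fin 1)).symm.toRingEquiv.toRingHom)) :=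
  inferInstanceAs (IsIso (Scheme.Spec.map
    (MvPolynomial.renameEquiv (ULift.{u} ℤ) (Equiv.ulift : (ULift.{u} (Fin 1)) ≃ Fin 1)).symm.toRingEquiv.toCommRingCatIso.hom.op))

instance : IsOpenImmersion lineToProj.{u} := by
  unfold lineToProj; infer_instance

variable [∀ (U V : Scheme.{u}) (j : U ⟶ V) [IsOpenImmersion j], PreservesFiniteLimits (Scheme.Modules.restrictFunctor j)]

/-- The dualizing complex of the projective line over the integers on the affine line. -/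
theorem nonempty_omega_line [DCoh.HasRpush (CohB1.ProjSpace.toSpec 1 (ULift.{u} ℤ))] (hR : DCoh.RpushPreservesQCoh (CohB1.ProjSpace.toSpec 1 (ULift.{u} ℤ)))
    (a : DCoh.DQCoh (Spec (CommRingCat.of (ULift.{u} ℤ))) ⥤ DCoh.DQCoh (CohB1.ProjSpace 1 (ULift.{u} ℤ))) (adj : DCoh.RpushQ (CohB1.ProjSpace.toSpec 1 (ULift.{u} ℤ)) hR ⊣ a)
    (O : DCoh.DQCoh (Spec (CommRingCat.of (ULift.{u} ℤ))))
    (hO : Nonempty (O.obj ≅ DCoh.inD (Spec (CommRingCat.of (ULift.{u} ℤ))) (Coh.structureModule _)))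
    [DCoh.HasLpull lineToProj.{u}] :
    Nonempty ((DCoh.Lpull lineToProj.{u}).obj (a.obj O).obj ≅
      uD (AffineSpace (ULift.{u} (Fin 1)) (Spec (CommRingCat.of (ULift.{u} ℤ)))) (-1)) := by
  let s := (AffineSpace.SpecIso (ULift.{u} (Fin 1)) (CommRingCat.of (ULift.{u} ℤ))).hom ≫
    Spec.map (CommRingCat.ofHom (MvPolynomial.renameEquiv (ULift.{u} ℤ) (Equiv.ulift : (ULift.{u} (Fin 1)) ≃ Fin 1)).symm.toRingEquiv.toRingHom)
  let g := Spec.map (CommRingCat.ofHom (algebraMap (ULift.{u} ℤ) (MvPolynomial (Fin 1) (ULift.{u} ℤ))))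
  haveI := hasLpull g; haveI := hasLpull s; haveI := hasLpull (chartP 1 (ULift.{u} ℤ))
  obtain ⟨e⟩ := nonempty_shriek_chart 1 (ULift.{u} ℤ) hR a adj O
  obtain ⟨eO⟩ := hO
  obtain ⟨u⟩ := TwistFam.nonempty_lpull_structure g
  obtain ⟨t⟩ := nonempty_shift_inD (X := Spec (CommRingCat.of (MvPolynomial (Fin 1) (ULift.{u} ℤ)))) ((1 : ℕ) : ℤ)
  obtain ⟨v⟩ := nonempty_lpull_uD s (-((1 : ℕ) : ℤ))
  haveI := hasLpull (s ≫ chartP 1 (ULift.{u} ℤ))
  obtain ⟨cc⟩ := nonempty_lpullCompIso s (chartP 1 (ULift.{u} ℤ))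
  have hk : (s ≫ chartP 1 (ULift.{u} ℤ)) = lineToProj.{u} := Category.assoc _ _ _
  refine ⟨((lpullRestrictNatIso _).app _) ≪≫ (restrictDCongr hk.symm).app _ ≪≫
    ((lpullRestrictNatIso _).app _).symm ≪≫ (cc.app _).symm ≪≫ (DCoh.Lpull s).mapIso
      ((lpullRestrictNatIso _).app _ ≪≫ e ≪≫
        (shiftFunctor _ _).mapIso ((DCoh.Lpull g).mapIso eO ≪≫ u) ≪≫ t) ≪≫ v⟩

/-- The upper shriek of the affine line is the shifted inverse image. -/
theorem nonempty_shriekC_affineLine {Y : Scheme.{u}} [IsNoetherian Y]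
    (c : DEt.Compactification (AffineSpace (ULift.{u} (Fin 1)) Y ↘ Y)) [DCoh.HasRpush c.fbar]
    {hc : DCoh.RpushPreservesQCoh c.fbar} {a : DCoh.DQCoh Y ⥤ DCoh.DQCoh c.Xbar}
    (adj : DCoh.RpushQ c.fbar hc ⊣ a) [PreservesFiniteLimits (Scheme.Modules.restrictFunctor c.j)]
    [DCoh.HasLpull (AffineSpace (ULift.{u} (Fin 1)) Y ↘ Y)] :
    Nonempty (Dual3.bddι Y ⋙ Dual3.shriekC c a ≅ Dual3.bddι Y ⋙ ObjectProperty.ι _ ⋙
      DCoh.Lpull (AffineSpace (ULift.{u} (Fin 1)) Y ↘ Y) ⋙ shiftFunctor (DCoh.D (AffineSpace (ULift.{u} (Fin 1)) Y)) (1 : ℤ)) := by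
  let Z := Spec (CommRingCat.of (ULift.{u} ℤ))
  haveI : IsNoetherianRing (ULift.{u} ℤ) := isNoetherianRing_of_ringEquiv ℤ ULift.ringEquiv.symm
  haveI : IsNoetherian Z := inferInstance
  let b : Y ⟶ Z := specULiftZIsTerminal.from Y
  haveI : IsProper (CohB1.ProjSpace.toSpec 1 (ULift.{u} ℤ)) := CompleteCurve.isProper_toSpec 1 (ULift.{u} ℤ)
  haveI : Smooth (CohB1.ProjSpace.toSpec 1 (ULift.{u} ℤ)) := ProjSmoothLib.smooth_toSpec 1 (ULift.{u} ℤ)
  haveI : CompactSpace (CohB1.ProjSpace 1 (ULift.{u} ℤ)) :=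
    QuasiCompact.compactSpace_of_compactSpace (CohB1.ProjSpace.toSpec 1 (ULift.{u} ℤ))
  haveI : QuasiSeparatedSpace (CohB1.ProjSpace 1 (ULift.{u} ℤ)) :=
    quasiSeparatedSpace_of_quasiSeparated (CohB1.ProjSpace.toSpec 1 (ULift.{u} ℤ))
  let A := AffineSpace (ULift.{u} (Fin 1)) Y
  let P := pullback (CohB1.ProjSpace.toSpec 1 (ULift.{u} ℤ)) b
  let q : P ⟶ (CohB1.ProjSpace 1 (ULift.{u} ℤ)) := pullback.fst (CohB1.ProjSpace.toSpec 1 (ULift.{u} ℤ)) b
  let p : P ⟶ Y := pullback.snd (CohB1.ProjSpace.toSpec 1 (ULift.{u} ℤ)) b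
  have hsq : IsPullback q p (CohB1.ProjSpace.toSpec 1 (ULift.{u} ℤ)) b := IsPullback.of_hasPullback _ _
  haveI : IsProper p := MorphismProperty.of_isPullback (P := @IsProper) hsq inferInstance
  haveI : Smooth p := MorphismProperty.of_isPullback (P := @Smooth) hsq inferInstance
  haveI : LocallyOfFinitePresentation p := inferInstance
  haveI : Flat p := inferInstance
  let g := AffineSpace.map (ULift.{u} (Fin 1)) b
  let j : A ⟶ P := pullback.lift (g ≫ lineToProj) (A ↘ Y)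
    (by rw [Category.assoc, lineToProj_toSpec]; exact AffineSpace.map_over b)
  have hj₁ : j ≫ q = g ≫ lineToProj := pullback.lift_fst _ _ _
  have hj₂ : j ≫ p = A ↘ Y := pullback.lift_snd _ _ _
  have sq' : IsPullback g j lineToProj.{u} q := by
    refine IsPullback.of_bot ?_ hj₁.symm hsq
    rw [hj₂, lineToProj_toSpec]
    exact AffineSpace.isPullback_map b
  haveI : IsOpenImmersion j := MorphismProperty.of_isPullback (P := @IsOpenImmersion) sq' inferInstance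
  haveI : CompactSpace P := QuasiCompact.compactSpace_of_compactSpace p
  haveI : QuasiSeparatedSpace P := quasiSeparatedSpace_of_quasiSeparated p
  haveI : IsLocallyNoetherian P := LocallyOfFiniteType.isLocallyNoetherian p
  haveI : IsNoetherian P := {}
  haveI : IsLocallyNoetherian A := isLocallyNoetherian_of_isOpenImmersion j
  haveI : CompactSpace A := by
    haveI : QuasiCompact (A ↘ Y) := inferInstance
    exact QuasiCompact.compactSpace_of_compactSpace (A ↘ Y)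
  haveI := BC.hasRpush p; haveI := BC.hasRpush (CohB1.ProjSpace.toSpec 1 (ULift.{u} ℤ)); haveI := hasLpull q; haveI := hasLpull p; haveI := hasLpull j
  haveI := hasLpull g; haveI := hasLpull lineToProj.{u}; haveI := hasLpull (g ≫ lineToProj.{u})
  haveI := isLeftAdjoint_rpushQ' p; haveI := isLeftAdjoint_rpushQ' (CohB1.ProjSpace.toSpec 1 (ULift.{u} ℤ))
  let a₂ := (DCoh.RpushQ p (rpushQC p)).rightAdjoint
  let adj₂ : DCoh.RpushQ p (rpushQC p) ⊣ a₂ := Adjunction.ofIsLeftAdjoint _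
  let a₁ := (DCoh.RpushQ (CohB1.ProjSpace.toSpec 1 (ULift.{u} ℤ)) (rpushQC (CohB1.ProjSpace.toSpec 1 (ULift.{u} ℤ)))).rightAdjoint
  let adj₁ : DCoh.RpushQ (CohB1.ProjSpace.toSpec 1 (ULift.{u} ℤ)) (rpushQC (CohB1.ProjSpace.toSpec 1 (ULift.{u} ℤ))) ⊣ a₁ := Adjunction.ofIsLeftAdjoint _
  let OZ : DCoh.DQCoh Z := ⟨DCoh.inD Z (Coh.structureModule Z),
    DCohMore.isQCohD_of_isPerfect (isPerfect_inD (BCLib.isFinLocFree_structureModule Z))⟩
  let OY : DCoh.DQCoh Y := ⟨DCoh.inD Y (Coh.structureModule Y),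
    DCohMore.isQCohD_of_isPerfect (isPerfect_inD (BCLib.isFinLocFree_structureModule Y))⟩
  obtain ⟨ebc⟩ := nonempty_shriek_baseChange' hsq (isGorensteinMor_of_smooth (CohB1.ProjSpace.toSpec 1 (ULift.{u} ℤ))) (isGorensteinMor_of_smooth p)
    adj₁ adj₂ OZ ⟨Iso.refl _⟩ OY ⟨Iso.refl _⟩
  obtain ⟨el⟩ := nonempty_omega_line (rpushQC (CohB1.ProjSpace.toSpec 1 (ULift.{u} ℤ))) a₁ adj₁ OZ ⟨Iso.refl _⟩
  obtain ⟨v⟩ := nonempty_lpull_uD g (-1)
  obtain ⟨sqI⟩ := nonempty_lpull_square j q g lineToProj.{u} hj₁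
  let E := DerivedCategory.Q.objPreimage (a₂.obj OY).obj
  let eE : DerivedCategory.Q.obj E ≅ (a₂.obj OY).obj := DerivedCategory.Q.objObjPreimageIso _
  haveI : DCoh.HasLTensorCx E := DCohLib.hasLTensorCx _
  haveI : DCoh.HasLTensorCx (shiftUnitCx A (-1)) := DCohLib.hasLTensorCx _
  obtain ⟨e7⟩ := Groth.Agent.S7865.result P Y p (rpushQC p) a₂ adj₂
    (fun J => Groth.Agent.S3600.result P Y p (rpushQC p) a₂ adj₂ J) OY ⟨Iso.refl _⟩ E ⟨eE⟩
  let eN : uD A (-1) ≅ (DCoh.Lpull j).obj (DerivedCategory.Q.obj E) :=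
    v.symm ≪≫ (DCoh.Lpull g).mapIso el.symm ≪≫ (sqI.app _).symm ≪≫
      (DCoh.Lpull j).mapIso (ebc ≪≫ eE.symm)
  obtain ⟨eT⟩ := nonempty_lpull_lTensor_natIso j E (shiftUnitCx A (-1)) eN
  haveI := hasLpull (j ≫ p)
  obtain ⟨ecomp⟩ : Nonempty (DCoh.Lpull p ⋙ DCoh.Lpull j ≅ DCoh.Lpull (A ↘ Y)) := by
    have key : ∀ (k : A ⟶ Y) (_ : DCoh.HasLpull k), j ≫ p = k →
        Nonempty (DCoh.Lpull p ⋙ DCoh.Lpull j ≅ DCoh.Lpull k) := by
      rintro k _ rfl
      exact nonempty_lpullCompIso j p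
    exact key _ inferInstance hj₂
  let c₂ : DEt.Compactification (A ↘ Y) :=
    { Xbar := P, j := j, fbar := p, isOpenImmersion := inferInstance, isProper := inferInstance, fac := hj₂ }
  haveI : DCoh.HasRpush c₂.fbar := ‹DCoh.HasRpush p›
  haveI : PreservesFiniteLimits (Scheme.Modules.restrictFunctor c₂.j) := inferInstance
  obtain ⟨ind⟩ := nonempty_shriekC_indep c c₂ adj adj₂
  let rj : DCoh.restrictD j ≅ DCoh.Lpull j := (lpullRestrictNatIso j).symm
  let big : a₂ ⋙ ObjectProperty.ι _ ⋙ DCoh.restrictD j ≅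
      ObjectProperty.ι _ ⋙ DCoh.Lpull (A ↘ Y) ⋙ shiftFunctor (DCoh.D A) (1 : ℤ) :=
    (Functor.associator _ _ _).symm ≪≫ Functor.isoWhiskerRight e7 _ ≪≫
      Functor.isoWhiskerLeft _ rj ≪≫ Functor.associator _ _ _ ≪≫
      Functor.isoWhiskerLeft _ (Functor.associator _ _ _ ≪≫ Functor.isoWhiskerLeft _ eT ≪≫
        (Functor.associator _ _ _).symm ≪≫ Functor.isoWhiskerRight ecomp _ ≪≫
        Functor.isoWhiskerLeft _ (lTensorShiftUnitIso (-1) 1 (by omega)))
  exact ⟨ind ≪≫ Functor.isoWhiskerLeft (Dual3.bddι Y) big⟩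

end Groth.Agent.ShriekBridge
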