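import Groth.Agent.ShriekBridge.Charts
import Groth.Agent.ShriekAlgLib.GorFibre
import Groth.Agent.DualCxLib.GorSchMain
import Groth.Agent.TildeLpull.Main

/-!
# Gorenstein points and invertibility of the relative dualizing complex
-/

set_option autoImplicit false
set_option linter.style.haveILetI false
set_option linter.unusedSectionVars false
set_option backward.isDefEq.respectTransparency false
set_option maxHeartbeats 1000000

universe u

open CategoryTheory CategoryTheory.Limits AlgebraicGeometry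
open Groth.Agent.DCohLib Groth.Agent.DCohMore Groth.Agent.DimFormulaLib Groth.Agent.DualCxLib

attribute [local instance] HasDerivedCategory.standard

noncomputable section

namespace Groth.Agent.ShriekBridge

variable {X Y : Scheme.{u}} {f : X ⟶ Y} {x : X}

/-- Gorenstein points of a flat morphism read on a chart. -/
theorem gorensteinAt_iff_fibreQ [Flat f] (c : Chart f x) :
    Dual3.IsGorensteinAt f x ↔
      LocCoh.IsGorensteinLocalRing (Localization.AtPrime (ShriekAlgLib.fibreQ c.A c.B c.q.asIdeal)) := by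
  haveI : (ShriekAlgLib.fibreQ c.A c.B c.q.asIdeal).IsPrime := inferInstance
  have h := GorSp.localRingHom_gorFibre_iff c.p.asIdeal c.q.asIdeal
    ⟨ShriekAlgLib.fibreQ c.A c.B c.q.asIdeal, inferInstance⟩ (by
      ext b
      show ShriekAlgLib.fibrePt c.A c.B c.q.asIdeal ((1 : ShriekAlgLib.baseK c.A c.B c.q.asIdeal) ⊗ₜ b) = 0 ↔ _
      rw [ShriekAlgLib.fibrePt, Algebra.TensorProduct.lift_tmul, map_one, one_mul]
      exact Ideal.algebraMap_residueField_eq_zero)
  rw [GorSp.gorAt_iff_gorFibre, CMFlatLib.chart_stalkMap_iff GorSp.respectsIso_gorFibre c]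
  exact ⟨fun hh => h.1 hh.2, fun hh => ⟨Flat.stalkMap f x, h.2 hh⟩⟩

variable [∀ (U V : Scheme.{u}) (j : U ⟶ V) [IsOpenImmersion j], PreservesFiniteLimits (Scheme.Modules.restrictFunctor j)]

/-- An object trivial on an open immersion is invertible on its range. -/
theorem invertibleD_opensRange {V : Scheme.{u}} (j : V ⟶ X) [IsOpenImmersion j] (K : DCoh.D X) (n : ℤ)
    (e : (DCoh.restrictD j).obj K ≅ (DCoh.inD V (Coh.structureModule V))⟦n⟧) :
    Dual3.IsInvertibleD ((DCoh.restrictD j.opensRange.ι).obj K) := by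
  intro y
  let W : (j.opensRange : Scheme.{u}).Opens := ⊤
  let s : (W : Scheme.{u}) ⟶ V := W.ι ≫ j.isoOpensRange.inv
  have h : W.ι ≫ j.opensRange.ι = s ≫ j := by
    rw [Category.assoc, Scheme.Hom.isoOpensRange_inv_comp]
  exact ⟨W, n, trivial, ⟨((restrictDComp W.ι j.opensRange.ι).app K).symm ≪≫ (restrictDCongr h).app K ≪≫
    (restrictDComp s j).app K ≪≫ (DCoh.restrictD s).mapIso e ≪≫ restrictStructureShift s n⟩⟩

variable [∀ (R : CommRingCat.{u}), PreservesFiniteLimits (tilde.functor R)]

/-- Restriction of a tilde complex to a basic open. -/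
theorem nonempty_restrict_away (c : Chart f x) (g : c.B) [DRing.HasLBaseChange (algebraMap c.B (Localization.Away g))]
    (K : DCoh.D X) (ω : Dual.D c.B) (e : (DCoh.restrictD c.j).obj K ≅ (DCoh.tildeD (CommRingCat.of c.B)).obj ω)
    [IsOpenImmersion (Spec.map (CommRingCat.ofHom (algebraMap c.B (Localization.Away g))) ≫ c.j)] :
    Nonempty ((DCoh.restrictD (Spec.map (CommRingCat.ofHom (algebraMap c.B (Localization.Away g))) ≫ c.j)).obj K ≅
      (DCoh.tildeD (CommRingCat.of (Localization.Away g))).obj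
        ((DRing.LBaseChange (algebraMap c.B (Localization.Away g))).obj ω)) := by
  let s := Spec.map (CommRingCat.ofHom (algebraMap c.B (Localization.Away g)))
  haveI : IsOpenImmersion s := IsOpenImmersion.of_isLocalization g
  haveI := hasLpull s
  exact ⟨(restrictDComp s c.j).app K ≪≫ (DCoh.restrictD s).mapIso e ≪≫ ((lpullRestrictNatIso s).app _).symm ≪≫
    ((TildeLpull.lbcLpullIso (algebraMap c.B (Localization.Away g))).app ω).symm⟩

variable [IsNoetherian Y] {cp : DEt.Compactification f} [DCoh.HasRpush cp.fbar] {hc : DCoh.RpushPreservesQCoh cp.fbar}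
  {a : DCoh.DQCoh Y ⥤ DCoh.DQCoh cp.Xbar}

/-- The Gorenstein points are the points where the upper shriek of the structure sheaf is invertible. -/
theorem gorensteinAt_iff_invertible [Flat f] [LocallyOfFiniteType f] (adj : DCoh.RpushQ cp.fbar hc ⊣ a)
    (O : DCoh.DQCoh Y) (hO : Nonempty (O.obj ≅ DCoh.inD Y (Coh.structureModule Y))) (x : X) :
    Dual3.IsGorensteinAt f x ↔
      ∃ U : X.Opens, x ∈ U ∧ Dual3.IsInvertibleD ((DCoh.restrictD U.ι).obj ((Dual3.shriekC cp a).obj O)) := by
  obtain ⟨c⟩ := DimFormulaLib.exists_chart f x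
  obtain ⟨P⟩ := nonempty_pres c.A c.B
  haveI := isNoetherianRing_base c
  haveI := isNoetherianRing_total c
  haveI := flat_of_chart c
  haveI hL : ∀ g : c.B, DRing.HasLBaseChange (algebraMap c.B (Localization.Away g)) := fun g => DRingLib.hasLBaseChange _
  obtain ⟨e⟩ := nonempty_restrict_chart adj O hO c P
  let K := (Dual3.shriekC cp a).obj O
  have hI := ShriekAlgLib.invertible_iff_gorenstein_point c.A c.B P.n P.ψ P.hψ P.Rψ P.adj c.q.asIdeal
  rw [gorensteinAt_iff_fibreQ c, hI]
  constructor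
  · rintro ⟨g, hg, m, ⟨i⟩⟩
    haveI : IsOpenImmersion (Spec.map (CommRingCat.ofHom (algebraMap c.B (Localization.Away g)))) :=
      IsOpenImmersion.of_isLocalization g
    obtain ⟨r⟩ := nonempty_restrict_away c g K P.omega e
    let j' := Spec.map (CommRingCat.ofHom (algebraMap c.B (Localization.Away g))) ≫ c.j
    refine ⟨j'.opensRange, ?_, invertibleD_opensRange j' K m
      (r ≪≫ (DCoh.tildeD _).mapIso i ≪≫ tildeShift (CommRingCat.of (Localization.Away g)) m)⟩
    obtain ⟨z, hz⟩ : c.q ∈ Set.range (PrimeSpectrum.comap (algebraMap c.B (Localization.Away g))) := by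
      rw [PrimeSpectrum.localization_away_comap_range (Localization.Away g) g]
      exact hg
    exact ⟨z, (Scheme.Hom.comp_apply _ _ _).trans ((congrArg c.j hz).trans c.hq)⟩
  · rintro ⟨U, hxU, hinv⟩
    obtain ⟨W, m, hW, ⟨i⟩⟩ := hinv ⟨x, hxU⟩
    let V : X.Opens := (W.ι ≫ U.ι).opensRange
    have hxV : c.q ∈ ((c.j ⁻¹ᵁ V).1 : Set (PrimeSpectrum c.B)) := by
      show c.j c.q ∈ V
      rw [c.hq]
      exact ⟨⟨⟨x, hxU⟩, hW⟩, rfl⟩
    obtain ⟨_, ⟨g, rfl⟩, hg, hgV⟩ :=
      PrimeSpectrum.isTopologicalBasis_basic_opens.exists_subset_of_mem_open hxV (c.j ⁻¹ᵁ V).isOpen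
    haveI : IsOpenImmersion (Spec.map (CommRingCat.ofHom (algebraMap c.B (Localization.Away g)))) :=
      IsOpenImmersion.of_isLocalization g
    obtain ⟨r⟩ := nonempty_restrict_away c g K P.omega e
    let j' := Spec.map (CommRingCat.ofHom (algebraMap c.B (Localization.Away g))) ≫ c.j
    let t := IsOpenImmersion.lift (W.ι ≫ U.ι) j' (by
      rintro _ ⟨z, rfl⟩
      refine hgV ?_
      show (Spec.map (CommRingCat.ofHom (algebraMap c.B (Localization.Away g)))) z ∈
        (PrimeSpectrum.basicOpen g : Set (PrimeSpectrum c.B))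
      rw [← PrimeSpectrum.localization_away_comap_range (Localization.Away g) g]
      exact ⟨z, rfl⟩)
    have ht : t ≫ W.ι ≫ U.ι = j' := IsOpenImmersion.lift_fac _ _ _
    haveI := (TildeD.main (CommRingCat.of (Localization.Away g))).1
    haveI := (TildeD.main (CommRingCat.of (Localization.Away g))).2.1
    haveI : IsOpenImmersion (t ≫ W.ι ≫ U.ι) := by rw [ht]; infer_instance
    haveI : IsOpenImmersion t := IsOpenImmersion.of_comp t (W.ι ≫ U.ι)
    refine ⟨g, hg, m, ⟨(DCoh.tildeD (CommRingCat.of (Localization.Away g))).preimageIso (r.symm ≪≫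
      (restrictDCongr ht.symm).app K ≪≫ (restrictDComp t (W.ι ≫ U.ι)).app K ≪≫
      (DCoh.restrictD t).mapIso ((restrictDComp W.ι U.ι).app K ≪≫ i) ≪≫ restrictStructureShift t m ≪≫
      (tildeShift (CommRingCat.of (Localization.Away g)) m).symm)⟩⟩

end Groth.Agent.ShriekBridge
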