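import Groth.Agent.ShriekBridge.Gor
import Groth.Agent.S1828

/-!
# Invertibility of the upper shriek of the structure sheaf
-/

set_option autoImplicit false
set_option linter.style.haveILetI false
set_option linter.unusedSectionVars false
set_option backward.isDefEq.respectTransparency false
set_option maxHeartbeats 1000000

universe u

open CategoryTheory CategoryTheory.Limits AlgebraicGeometry
open Groth.Agent.DCohLib Groth.Agent.DCohMore Groth.Agent.DimFormulaLib Groth.Agent.DualCxLib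

attribute [local instance] HasDerivedCategory.standard

noncomputable section

namespace Groth.Agent.ShriekBridge

variable {X Y : Scheme.{u}} {f : X ⟶ Y} {x : X}
  [∀ (U V : Scheme.{u}) (j : U ⟶ V) [IsOpenImmersion j], PreservesFiniteLimits (Scheme.Modules.restrictFunctor j)]

/-- Invertibility is local. -/
theorem isInvertibleD_of_locally (K : DCoh.D X)
    (h : ∀ x : X, ∃ U : X.Opens, x ∈ U ∧ Dual3.IsInvertibleD ((DCoh.restrictD U.ι).obj K)) :
    Dual3.IsInvertibleD K := by
  intro x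
  obtain ⟨U, hxU, hU⟩ := h x
  obtain ⟨W, n, hW, ⟨i⟩⟩ := hU ⟨x, hxU⟩
  let V : X.Opens := (W.ι ≫ U.ι).opensRange
  let s : (V : Scheme.{u}) ⟶ W := (W.ι ≫ U.ι).isoOpensRange.inv
  have h : V.ι = s ≫ W.ι ≫ U.ι := (Scheme.Hom.isoOpensRange_inv_comp _).symm
  exact ⟨V, n, ⟨⟨⟨x, hxU⟩, hW⟩, rfl⟩, ⟨(restrictDCongr h).app K ≪≫ (restrictDComp s (W.ι ≫ U.ι)).app K ≪≫
    (DCoh.restrictD s).mapIso ((restrictDComp W.ι U.ι).app K ≪≫ i) ≪≫ restrictStructureShift s n⟩⟩

variable [∀ (R : CommRingCat.{u}), PreservesFiniteLimits (tilde.functor R)]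

/-- Invertibility of the algebraic model on a basic open gives invertibility near the point. -/
theorem exists_invertibleD_of_away (c : Chart f x) (K : DCoh.D X) (ω : Dual.D c.B)
    (e : (DCoh.restrictD c.j).obj K ≅ (DCoh.tildeD (CommRingCat.of c.B)).obj ω) (g : c.B) (hg : g ∉ c.q.asIdeal)
    [DRing.HasLBaseChange (algebraMap c.B (Localization.Away g))] (m : ℤ)
    (i : (DRing.LBaseChange (algebraMap c.B (Localization.Away g))).obj ω ≅
      (Dual.inD (Localization.Away g) (Localization.Away g))⟦m⟧) :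
    ∃ U : X.Opens, x ∈ U ∧ Dual3.IsInvertibleD ((DCoh.restrictD U.ι).obj K) := by
  haveI : IsOpenImmersion (Spec.map (CommRingCat.ofHom (algebraMap c.B (Localization.Away g)))) :=
    IsOpenImmersion.of_isLocalization g
  obtain ⟨r⟩ := nonempty_restrict_away c g K ω e
  let j' := Spec.map (CommRingCat.ofHom (algebraMap c.B (Localization.Away g))) ≫ c.j
  refine ⟨j'.opensRange, ?_, invertibleD_opensRange j' K m
    (r ≪≫ (DCoh.tildeD _).mapIso i ≪≫ tildeShift (CommRingCat.of (Localization.Away g)) m)⟩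
  obtain ⟨z, hz⟩ : c.q ∈ Set.range (PrimeSpectrum.comap (algebraMap c.B (Localization.Away g))) := by
    rw [PrimeSpectrum.localization_away_comap_range (Localization.Away g) g]
    exact hg
  exact ⟨z, (Scheme.Hom.comp_apply _ _ _).trans ((congrArg c.j hz).trans c.hq)⟩

variable [IsNoetherian Y] {cp : DEt.Compactification f} [DCoh.HasRpush cp.fbar] {hc : DCoh.RpushPreservesQCoh cp.fbar}
  {a : DCoh.DQCoh Y ⥤ DCoh.DQCoh cp.Xbar}

/-- The upper shriek of the structure sheaf of a local complete intersection is invertible. -/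
theorem isInvertibleD_of_lci [LocallyOfFiniteType f] (adj : DCoh.RpushQ cp.fbar hc ⊣ a)
    (O : DCoh.DQCoh Y) (hO : Nonempty (O.obj ≅ DCoh.inD Y (Coh.structureModule Y))) (hf : Dual3.IsLCIMor f) :
    Dual3.IsInvertibleD ((Dual3.shriekC cp a).obj O) := by
  refine isInvertibleD_of_locally _ fun x => ?_
  obtain ⟨⟨U, hU⟩, ⟨V, hV⟩, h, hxU, hl⟩ := hf x
  letI := (f.appLE V U h).hom.toAlgebra
  haveI : Algebra.FiniteType Γ(Y, V) Γ(X, U) := f.finiteType_appLE hV hU h
  let c : Chart f x :=
    { A := Γ(Y, V), B := Γ(X, U), i := hV.fromSpec, j := hU.fromSpec,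
      w := (IsAffineOpen.SpecMap_appLE_fromSpec f hV hU h).symm,
      q := hU.primeIdealOf ⟨x, hxU⟩, hq := hU.fromSpec_primeIdealOf ⟨x, hxU⟩ }
  obtain ⟨P⟩ := nonempty_pres c.A c.B
  haveI := isNoetherianRing_base c
  haveI := isNoetherianRing_total c
  haveI hL : ∀ g : c.B, DRing.HasLBaseChange (algebraMap c.B (Localization.Away g)) := fun g => DRingLib.hasLBaseChange _
  obtain ⟨e⟩ := nonempty_restrict_chart adj O hO c P
  obtain ⟨g, hg, m, ⟨i⟩⟩ := S1828.result c.A c.B hl P.n P.ψ P.hψ P.Rψ P.adj c.q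
  exact exists_invertibleD_of_away c _ P.omega e g hg m i

end Groth.Agent.ShriekBridge
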