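import Groth.Agent.ShriekBridge.ClosedExt
import Groth.Agent.ShriekBridge.AffineLine
import Groth.Agent.ShriekBridge.Gor
import Groth.Agent.ShriekBridge.Invert
import Groth.Agent.TwistShriek.ShriekComp
import Groth.Agent.TwistShriek.ShriekFlatBC
import Groth.Agent.CanonFacLib.Graph
import Groth.Agent.ExtPowLib.Exist
import Groth.Agent.OmegaAffLib.Main
import Groth.Agent.CurveLib.DegTensor

/-!
# The upper shriek of a smooth morphism
-/

set_option autoImplicit false
set_option linter.style.haveILetI false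
set_option linter.unusedSectionVars false
set_option backward.isDefEq.respectTransparency false
set_option maxHeartbeats 2000000

universe u

open CategoryTheory CategoryTheory.Limits AlgebraicGeometry
open Groth.Agent.DCohLib Groth.Agent.DCohMore Groth.Agent.TwistShriek

attribute [local instance] HasDerivedCategory.standard

noncomputable section

namespace Groth.Agent.ShriekBridge

/-- The derived inverse image of a module along a flat morphism is its inverse image. -/
theorem nonempty_lpull_inD_of_flat {X Y : Scheme.{u}} (f : X ⟶ Y) [Flat f] [DCoh.HasLpull f] (M : Y.Modules) :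
    Nonempty ((DCoh.Lpull f).obj (DCoh.inD Y M) ≅ DCoh.inD X ((Scheme.Modules.pullback f).obj M)) := by
  let K := (DCoh.Lpull f).obj (DCoh.inD Y M)
  have hz : ∀ i : ℤ, i ≠ 0 → IsZero (DCoh.HD K i) := fun i hi => by
    obtain ⟨e⟩ := nonempty_HD_lpull_flat f (DCoh.inD Y M) i
    exact IsZero.of_iso ((Scheme.Modules.pullback f).map_isZero (isZero_HD_inD M hi)) e.symm
  haveI : K.IsGE 0 := (DerivedCategory.isGE_iff _ _).2 fun i hi => hz i (by omega)
  haveI : K.IsLE 0 := (DerivedCategory.isLE_iff _ _).2 fun i hi => hz i (by omega)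
  obtain ⟨N, ⟨eN⟩⟩ := DerivedCategory.exists_iso_singleFunctor_obj_of_isGE_of_isLE K 0
  obtain ⟨e⟩ := nonempty_HD_lpull_flat f (DCoh.inD Y M) 0
  exact ⟨eN ≪≫ (DerivedCategory.singleFunctor X.Modules 0).mapIso
    (((DerivedCategory.singleFunctorCompHomologyFunctorIso X.Modules 0).app N).symm ≪≫
      (DerivedCategory.homologyFunctor X.Modules 0).mapIso eN.symm ≪≫ e.symm ≪≫
      (Scheme.Modules.pullback f).mapIso
        ((DerivedCategory.singleFunctorCompHomologyFunctorIso Y.Modules 0).app M))⟩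

/-- Derived inverse images commute with shifts. -/
theorem nonempty_lpull_shift {X Y : Scheme.{u}} (f : X ⟶ Y) [DCoh.HasLpull f] (K : DCoh.D Y) (m : ℤ) :
    Nonempty ((DCoh.Lpull f).obj (K⟦m⟧) ≅ ((DCoh.Lpull f).obj K)⟦m⟧) := by
  haveI : DCoh.HasRpush f := Groth.Agent.KInj.hasRightDerivedFunctor (hres_modules _) _
  haveI : SiteCmp.HasRpushD (ModSite.RMor.ofScheme f) := ‹DCoh.HasRpush f›
  obtain ⟨h₁, h₂⟩ := SiteCmpLib.exists_triangulated_rpushD (ModSite.RMor.ofScheme f)
  letI : (DCoh.Rpush f).CommShift ℤ := h₁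
  letI := (lpullRpushAdj f).leftAdjointCommShift ℤ
  exact ⟨((DCoh.Lpull f).commShiftIso m).app K⟩

/-- Cohomology of a shift. -/
def hdShift {X : Scheme.{u}} (K : DCoh.D X) (m i j : ℤ) (h : m + i = j) : DCoh.HD (K⟦m⟧) i ≅ DCoh.HD K j :=
  ((DerivedCategory.homologyFunctor X.Modules 0).shiftIso m i j h).app K

variable [∀ (U V : Scheme.{u}) (j : U ⟶ V) [IsOpenImmersion j], PreservesFiniteLimits (Scheme.Modules.restrictFunctor j)]
  {S X : Scheme.{u}} [IsNoetherian S] [IsNoetherian X] {n : ℕ} (f : X ⟶ S) [Dual3.IsSepFT f]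
  [SmoothOfRelativeDimension n f] (c : DEt.Compactification f) [DCoh.HasRpush c.fbar]
  {hc : DCoh.RpushPreservesQCoh c.fbar} {a : DCoh.DQCoh S ⥤ DCoh.DQCoh c.Xbar}

/-- The diagonal argument: the module of the upper shriek is an exterior power of the differentials. -/
theorem nonempty_iso_tmod_extPow (adj : DCoh.RpushQ c.fbar hc ⊣ a) (O : DCoh.DQCoh S)
    (hO : Nonempty (O.obj ≅ DCoh.inD S (Coh.structureModule S))) {L : X.Modules}
    (hL : ExtPow.IsExtPow n (Omega.sheaf f) L) (M : X.Modules) (m : ℤ)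
    (eM : (Dual3.shriekC c a).obj O ≅ (DCoh.inD X M)⟦m⟧) :
    Nonempty (M ≅ tmod (DCoh.HD (DCoh.inD X (Coh.structureModule X)) ((n : ℤ) - m)) L) := by
  haveI : Smooth f := SmoothOfRelativeDimension.smooth n f
  haveI : LocallyOfFinitePresentation f := inferInstance
  haveI : Flat f := inferInstance
  let P := pullback f f
  let p₁ : P ⟶ X := pullback.fst f f
  let p₂ : P ⟶ X := pullback.snd f f
  let δ : X ⟶ P := pullback.diagonal f
  haveI := smoothOfRelativeDimension_isStableUnderBaseChange (n := n)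
  haveI : SmoothOfRelativeDimension n p₁ :=
    MorphismProperty.pullback_fst (P := @SmoothOfRelativeDimension n) _ _ inferInstance
  haveI : Flat p₂ := MorphismProperty.pullback_snd (P := @Flat) _ _ inferInstance
  haveI : LocallyOfFiniteType p₁ := inferInstance
  haveI : QuasiCompact p₁ := inferInstance
  haveI : IsSeparated p₁ := inferInstance
  haveI : IsLocallyNoetherian P := LocallyOfFiniteType.isLocallyNoetherian p₁
  haveI : CompactSpace P := QuasiCompact.compactSpace_of_compactSpace p₁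
  haveI : IsNoetherian P := {}
  have hδ : δ ≫ p₁ = 𝟙 X := pullback.diagonal_fst f
  haveI : IsClosedImmersion δ := inferInstance
  -- a compactification of the first projection
  let Q := pullback c.fbar f
  haveI : IsProper (pullback.snd c.fbar f) := MorphismProperty.pullback_snd (P := @IsProper) _ _ inferInstance
  let jQ : P ⟶ Q := pullback.lift (p₂ ≫ c.j) p₁ (by rw [Category.assoc, c.fac]; exact pullback.condition.symm)
  have hjQ₁ : jQ ≫ pullback.fst c.fbar f = p₂ ≫ c.j := pullback.lift_fst _ _ _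
  have hjQ₂ : jQ ≫ pullback.snd c.fbar f = p₁ := pullback.lift_snd _ _ _
  have hsq : IsPullback p₂ p₁ f f := (IsPullback.of_hasPullback f f).flip
  have hjsq : IsPullback p₂ jQ c.j (pullback.fst c.fbar f) :=
    IsPullback.of_bot (by rw [hjQ₂, c.fac]; exact hsq) hjQ₁.symm (IsPullback.of_hasPullback _ _)
  haveI : IsOpenImmersion jQ := MorphismProperty.of_isPullback (P := @IsOpenImmersion) hjsq inferInstance
  let cp : DEt.Compactification p₁ :=
    { Xbar := Q, j := jQ, fbar := pullback.snd c.fbar f, isOpenImmersion := inferInstance,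
      isProper := inferInstance, fac := hjQ₂ }
  haveI : CompactSpace cp.Xbar := QuasiCompact.compactSpace_of_compactSpace cp.fbar
  haveI : QuasiSeparatedSpace cp.Xbar := quasiSeparatedSpace_of_quasiSeparated cp.fbar
  haveI := BC.hasRpush cp.fbar
  haveI := isLeftAdjoint_rpushQ' cp.fbar
  let b := (DCoh.RpushQ cp.fbar (rpushQC cp.fbar)).rightAdjoint
  let adjb : DCoh.RpushQ cp.fbar (rpushQC cp.fbar) ⊣ b := Adjunction.ofIsLeftAdjoint _
  -- compactifications of the diagonal and of the identity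
  let cd : DEt.Compactification δ :=
    { Xbar := X, j := 𝟙 X, fbar := δ, isOpenImmersion := inferInstance, isProper := inferInstance,
      fac := Category.id_comp _ }
  let ci : DEt.Compactification (δ ≫ p₁) :=
    { Xbar := X, j := 𝟙 X, fbar := 𝟙 X, isOpenImmersion := inferInstance, isProper := inferInstance,
      fac := (Category.id_comp _).trans hδ.symm }
  haveI : DCoh.HasRpush cd.fbar := BC.hasRpush δ
  haveI : DCoh.HasRpush δ := BC.hasRpush δ
  haveI : DCoh.HasRpush (𝟙 X) := BC.hasRpush (𝟙 X)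
  haveI : DCoh.HasRpush ci.fbar := BC.hasRpush (𝟙 X)
  haveI := isLeftAdjoint_rpushQ' δ
  let aδ := (DCoh.RpushQ δ (rpushQC δ)).rightAdjoint
  let adjδ : DCoh.RpushQ δ (rpushQC δ) ⊣ aδ := Adjunction.ofIsLeftAdjoint _
  obtain ⟨iid⟩ := nonempty_rpush_id (X := X)
  let iQ : DCoh.RpushQ (𝟙 X) (rpushQC (𝟙 X)) ≅ 𝟭 (DCoh.DQCoh X) :=
    NatIso.ofComponents (fun K => ObjectProperty.isoMk _ (iid.app K.obj))
      fun φ => ObjectProperty.hom_ext _ (iid.hom.naturality φ.hom)
  let adjid : DCoh.RpushQ (𝟙 X) (rpushQC (𝟙 X)) ⊣ 𝟭 (DCoh.DQCoh X) :=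
    CategoryTheory.Adjunction.id.ofNatIsoLeft iQ.symm
  -- the composite
  have hres : ∀ K : DCoh.D cp.Xbar, DCoh.IsQCohD K → DCoh.IsQCohD ((DCoh.restrictD cp.j).obj K) :=
    fun K hK => TildeD.isQCohD_restrict cp.j _ hK
  obtain ⟨comp⟩ := nonempty_shriekC_comp cd cp ci (hf := rpushQC δ) (hgf := rpushQC (𝟙 X)) adjδ adjb adjid hres
  -- flat base change
  haveI := DCohLib.hasLpull f
  haveI := DCohLib.hasLpull p₂
  obtain ⟨bc⟩ := nonempty_shriekC_flatBaseChange (g := f) (g' := p₂) hsq c cp adj adjb (lpullQCoh f)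
  let OX : DCoh.DQCoh X := ⟨DCoh.inD X (Coh.structureModule X),
    DCohMore.isQCohD_of_isPerfect (isPerfect_inD (BCLib.isFinLocFree_structureModule X))⟩
  have hbO : Dual3.IsBddBelowQ S O := ⟨0, DerivedCategory.TStructure.t.isGE_of_iso hO.some.symm 0⟩
  have hbX : Dual3.IsBddBelowQ X OX :=
    ⟨0, inferInstanceAs (((DerivedCategory.singleFunctor X.Modules 0).obj (Coh.structureModule X)).IsGE 0)⟩
  obtain ⟨uf⟩ := TwistFam.nonempty_lpull_structure f
  let eO : (Dual3.LpullQ f (lpullQCoh f)).obj O ≅ OX :=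
    ObjectProperty.isoMk _ ((DCoh.Lpull f).mapIso hO.some ≪≫ uf)
  obtain ⟨pM⟩ := nonempty_lpull_inD_of_flat p₂ M
  let B : DCoh.DQCoh P := ⟨(Dual3.shriekC cp b).obj OX, hres _ (b.obj OX).property⟩
  obtain ⟨cs⟩ := nonempty_lpull_shift p₂ (DCoh.inD X M) m
  let eB : B.obj ≅ (DCoh.inD P ((Scheme.Modules.pullback p₂).obj M))⟦m⟧ :=
    (Dual3.shriekC cp b).mapIso eO.symm ≪≫ (bc.app ⟨O, hbO⟩).symm ≪≫ (DCoh.Lpull p₂).mapIso eM ≪≫ cs ≪≫
      (shiftFunctor _ m).mapIso pM
  let eA : (aδ.obj B).obj ≅ DCoh.inD X (Coh.structureModule X) :=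
    ((restrictDId X).app _).symm ≪≫ (comp.app ⟨OX, hbX⟩).symm ≪≫ (restrictDId X).app _
  -- shifting
  obtain ⟨_, _⟩ := DQCohBrown.exists_triangulated_rpushQ δ (rpushQC δ)
  letI := adjδ.rightAdjointCommShift ℤ
  let ιP := ObjectProperty.ι (DCoh.IsQCohD (X := P))
  let ιX := ObjectProperty.ι (DCoh.IsQCohD (X := X))
  let eB' : (B⟦-m⟧).obj ≅ DCoh.inD P ((Scheme.Modules.pullback p₂).obj M) :=
    (ιP.commShiftIso (-m)).app B ≪≫ (shiftFunctor _ (-m)).mapIso eB ≪≫
      (shiftFunctorCompIsoId _ m (-m) (add_neg_cancel m)).app _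
  let eA' : (aδ.obj (B⟦-m⟧)).obj ≅ (DCoh.inD X (Coh.structureModule X))⟦-m⟧ :=
    ιX.mapIso ((aδ.commShiftIso (-m)).app B) ≪≫ (ιX.commShiftIso (-m)).app (aδ.obj B) ≪≫
      (shiftFunctor _ (-m)).mapIso eA
  obtain ⟨r⟩ := nonempty_pullback_iso_of_rightAdjoint δ (rpushQC δ) aδ adjδ
    (CanonFac.codim_section p₁ n δ hδ) hL (M := (Scheme.Modules.pullback p₂).obj M) (B⟦-m⟧) eB'
    ((DerivedCategory.homologyFunctor X.Modules (n : ℤ)).mapIso eA' ≪≫
      hdShift (DCoh.inD X (Coh.structureModule X)) (-m) n ((n : ℤ) - m) (by omega))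
  exact ⟨((Scheme.Modules.pullbackId X).app M).symm ≪≫
    ((Scheme.Modules.pullbackCongr (pullback.diagonal_snd f)).app M).symm ≪≫
    ((Scheme.Modules.pullbackComp δ p₂).app M).symm ≪≫ r⟩

omit [SmoothOfRelativeDimension n f] in
theorem not_isZero_structureModule {U : Scheme.{u}} (x : U) : ¬ IsZero (Coh.structureModule U) := by
  intro h
  have h1 : ∀ s : Γ(Coh.structureModule U, ⊤), s = 0 := fun s => by
    have := congrArg (fun φ => Scheme.Modules.Hom.app φ ⊤ s) (h.eq_of_src (𝟙 _) 0)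
    simpa using this
  have h2 : (1 : Γ(U, ⊤)) = 0 := h1 (1 : Γ(U, ⊤))
  exact one_ne_zero (α := U.presheaf.stalk x) (by
    simpa using congrArg (U.presheaf.germ ⊤ x trivial) h2)

/-- The upper shriek of a smooth morphism of relative dimension `n`. -/
theorem nonempty_shriekC_smooth (adj : DCoh.RpushQ c.fbar hc ⊣ a) (O : DCoh.DQCoh S)
    (hO : Nonempty (O.obj ≅ DCoh.inD S (Coh.structureModule S))) {L : X.Modules}
    (hL : ExtPow.IsExtPow n (Omega.sheaf f) L) :
    Nonempty ((Dual3.shriekC c a).obj O ≅ (DCoh.inD X L)⟦(n : ℤ)⟧) := by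
  haveI : ∀ (R : CommRingCat.{u}), PreservesFiniteLimits (tilde.functor R) := fun R => TildeD.preservesFiniteLimits_tilde
  haveI : Smooth f := SmoothOfRelativeDimension.smooth n f
  haveI : Flat f := inferInstance
  let K := (Dual3.shriekC c a).obj O
  have hz : ∀ i : ℤ, i ≠ -(n : ℤ) → IsZero (DCoh.HD K i) := fun i hi => by
    refine isZero_of_local fun x => ?_
    obtain ⟨V, hxV, hV⟩ := (gorensteinAt_iff_invertible adj O hO x).1 (isGorensteinMor_of_smooth f x)
    obtain ⟨W, m, hxW, ⟨eW⟩⟩ := hV ⟨x, hxV⟩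
    let j : (W : Scheme.{u}) ⟶ X := W.ι ≫ V.ι
    refine ⟨W, j, inferInstance, ⟨⟨x, hxV⟩, hxW⟩, rfl, ?_⟩
    let eK : (DCoh.restrictD j).obj K ≅ (DCoh.inD (W : Scheme.{u}) (Coh.structureModule (W : Scheme.{u})))⟦m⟧ :=
      (restrictDComp W.ι V.ι).app K ≪≫ eW
    have hm : m = (n : ℤ) := by
      by_contra hm
      haveI : IsLocallyNoetherian (W : Scheme.{u}) := isLocallyNoetherian_of_isOpenImmersion j
      haveI : CompactSpace (W : Scheme.{u}) := by
        haveI : TopologicalSpace.NoetherianSpace (W : Scheme.{u}) :=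
          j.isOpenEmbedding.isInducing.noetherianSpace
        infer_instance
      haveI : IsNoetherian (W : Scheme.{u}) := {}
      haveI : QuasiCompact j := inferInstance
      haveI : Dual3.IsSepFT (j ≫ f) := ⟨inferInstance, inferInstance, inferInstance⟩
      haveI : SmoothOfRelativeDimension (0 + n) (j ≫ f) := inferInstance
      haveI : SmoothOfRelativeDimension n (j ≫ f) := by
        simpa using (inferInstance : SmoothOfRelativeDimension (0 + n) (j ≫ f))
      haveI : Coh.IsQCoh (Omega.sheaf (j ≫ f)) := OmegaAffLib.isQCoh_omega _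
      obtain ⟨L', -, hL'⟩ := ExtPowLib.exists_isExtPow (Omega.sheaf (j ≫ f)) n
      let cj : DEt.Compactification (j ≫ f) :=
        { Xbar := c.Xbar, j := j ≫ c.j, fbar := c.fbar, isOpenImmersion := inferInstance,
          isProper := inferInstance, fac := by rw [Category.assoc, c.fac] }
      haveI : DCoh.HasRpush cj.fbar := ‹DCoh.HasRpush c.fbar›
      obtain ⟨r⟩ := nonempty_iso_tmod_extPow (j ≫ f) cj adj O hO hL' (Coh.structureModule (W : Scheme.{u})) m
        ((restrictDComp j c.j).app (a.obj O).obj ≪≫ eK)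
      refine not_isZero_structureModule (U := (W : Scheme.{u})) ⟨⟨x, hxV⟩, hxW⟩ (IsZero.of_iso ?_ r)
      exact (CurveLib.tensR L').map_isZero (isZero_HD_inD _ (by omega))
    exact (isZero_HD_inD _ (by omega)).of_iso ((restrictHDIso j K i).symm ≪≫
      (DerivedCategory.homologyFunctor _ i).mapIso eK ≪≫ hdShift _ m i (m + i) rfl)
  let K' := K⟦-(n : ℤ)⟧
  have hz' : ∀ i : ℤ, i ≠ 0 → IsZero (DCoh.HD K' i) := fun i hi =>
    (hz (-(n : ℤ) + i) (by omega)).of_iso (hdShift K (-(n : ℤ)) i _ rfl)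
  haveI : K'.IsGE 0 := (DerivedCategory.isGE_iff _ _).2 fun i hi => hz' i (by omega)
  haveI : K'.IsLE 0 := (DerivedCategory.isLE_iff _ _).2 fun i hi => hz' i (by omega)
  obtain ⟨M, ⟨eM'⟩⟩ := DerivedCategory.exists_iso_singleFunctor_obj_of_isGE_of_isLE K' 0
  let eM : K ≅ (DCoh.inD X M)⟦(n : ℤ)⟧ :=
    ((shiftFunctorCompIsoId _ (-(n : ℤ)) (n : ℤ) (neg_add_cancel _)).app K).symm ≪≫ (shiftFunctor _ (n : ℤ)).mapIso eM'
  obtain ⟨r⟩ := nonempty_iso_tmod_extPow f c adj O hO hL M n eM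
  let e₀ : DCoh.HD (DCoh.inD X (Coh.structureModule X)) ((n : ℤ) - n) ≅ Coh.structureModule X :=
    eqToIso (congrArg (DCoh.HD (DCoh.inD X (Coh.structureModule X))) (sub_self (n : ℤ))) ≪≫
      (DerivedCategory.singleFunctorCompHomologyFunctorIso X.Modules 0).app _
  exact ⟨eM ≪≫ (shiftFunctor _ (n : ℤ)).mapIso ((DerivedCategory.singleFunctor X.Modules 0).mapIso
    (r ≪≫ (CurveLib.tensR L).mapIso e₀ ≪≫ CurveLib.tmodUnit L))⟩

end Groth.Agent.ShriekBridge
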