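import Groth.Agent.ShriekBridge.Main
import Groth.Agent.TwistShriek.DualizingStalkMod
import Groth.Agent.DimFormulaLib.Irreducible
import Groth.Agent.CMFlatLib.Chart
import Groth.Agent.GorSp.Sch
import Groth.Agent.TwistShriek.DualizingPull
import Groth.Agent.DCohMore.AffinePushPC

/-!
# The upper shriek of the structure sheaf on charts
-/

set_option autoImplicit false
set_option linter.style.haveILetI false
set_option linter.unusedSectionVars false
set_option backward.isDefEq.respectTransparency false
set_option maxHeartbeats 1000000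

universe u

open CategoryTheory CategoryTheory.Limits AlgebraicGeometry
open Groth.Agent.DCohLib Groth.Agent.DCohMore Groth.Agent.TwistShriek Groth.Agent.DimFormulaLib

attribute [local instance] HasDerivedCategory.standard

noncomputable section

namespace Groth.Agent.ShriekBridge

/-- Algebraic data of a chart: Noetherian rings and a presentation with a coextension functor. -/
structure Pres (R A : Type u) [CommRing R] [CommRing A] [Algebra R A] where
  n : ℕ
  ψ : MvPolynomial (Fin n) R →ₐ[R] A
  hψ : Function.Surjective ψ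
  Rψ : Dual.D (MvPolynomial (Fin n) R) ⥤ Dual.D A
  adj : DRing.restrictD ψ.toRingHom ⊣ Rψ
  bc : DRing.HasLBaseChange (algebraMap R (MvPolynomial (Fin n) R))

attribute [instance] Pres.bc

theorem nonempty_pres (R A : Type u) [CommRing R] [CommRing A] [Algebra R A] [Algebra.FiniteType R A] :
    Nonempty (Pres R A) := by
  obtain ⟨n, ψ, hψ⟩ := Algebra.FiniteType.iff_quotient_mvPolynomial''.1 ‹Algebra.FiniteType R A›
  obtain ⟨Rψ, ⟨adj⟩⟩ := ShriekAlgLib.exists_rightAdjoint ψ.toRingHom
  exact ⟨⟨n, ψ, hψ, Rψ, adj, DRingLib.hasLBaseChange _⟩⟩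

/-- The algebraic relative dualizing complex of a presentation. -/
abbrev Pres.omega {R A : Type u} [CommRing R] [CommRing A] [Algebra R A] (P : Pres R A) : Dual.D A :=
  Dual2.shriekVia P.n P.Rψ (Dual.inD R R)

variable {X Y : Scheme.{u}} {f : X ⟶ Y} {x : X}

theorem isNoetherianRing_base [IsNoetherian Y] (c : Chart f x) : IsNoetherianRing c.A := by
  haveI : IsNoetherian (Spec (CommRingCat.of c.A)) := isNoetherian_of_affine_open c.i
  exact isNoetherian_Spec.1 (inferInstance : IsNoetherian (Spec (CommRingCat.of c.A)))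

theorem isNoetherianRing_total [IsNoetherian Y] (c : Chart f x) : IsNoetherianRing c.B := by
  haveI := isNoetherianRing_base c
  exact Algebra.FiniteType.isNoetherianRing c.A c.B

theorem flat_of_chart [Flat f] (c : Chart f x) : Module.Flat c.A c.B := by
  have h : Flat (Spec.map (CommRingCat.ofHom (algebraMap c.A c.B)) ≫ c.i) := by
    rw [← c.w]; infer_instance
  let q := Spec.map (CommRingCat.ofHom (algebraMap c.A c.B))
  have h' : Flat q := by
    haveI := h
    let γ : Spec (CommRingCat.of c.B) ⟶ pullback (q ≫ c.i) c.i := pullback.lift (𝟙 _) q (Category.id_comp _)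
    haveI : IsSplitEpi (pullback.fst (q ≫ c.i) c.i) := IsSplitEpi.mk' ⟨γ, pullback.lift_fst _ _ _⟩
    haveI : IsIso (pullback.fst (q ≫ c.i) c.i) := isIso_of_mono_of_isSplitEpi _
    haveI : IsIso γ := by
      have e : γ ≫ pullback.fst (q ≫ c.i) c.i = 𝟙 _ := pullback.lift_fst _ _ _
      haveI : IsIso (γ ≫ pullback.fst (q ≫ c.i) c.i) := by rw [e]; infer_instance
      exact IsIso.of_isIso_comp_right γ (pullback.fst (q ≫ c.i) c.i)
    haveI : Flat (pullback.snd (q ≫ c.i) c.i) := MorphismProperty.pullback_snd (P := @Flat) _ _ h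
    rw [← (pullback.lift_snd _ _ _ : γ ≫ pullback.snd (q ≫ c.i) c.i = q)]
    infer_instance
  exact RingHom.flat_algebraMap_iff.1 ((HasRingHomProperty.Spec_iff (P := @Flat)).1 h')

/-- The fibre dimension only depends on the chart. -/
theorem fibreDimAt_spec (c : Chart f x) (P : PrimeSpectrum c.B) :
    FlatMor.fibreDimAt f (c.j P) =
      FlatMor.fibreDimAt (Spec.map (CommRingCat.ofHom (algebraMap c.A c.B))) P := by
  let c' : Chart (Spec.map (CommRingCat.ofHom (algebraMap c.A c.B))) P :=
    { A := c.A, B := c.B, i := 𝟙 _, j := 𝟙 _, w := by simp, q := P, hq := rfl }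
  exact (c.move P).fibreDimAt_eq.trans c'.fibreDimAt_eq.symm

theorem localFibreDim_eq (f : X ⟶ Y) (x : X) : Dual3.localFibreDim f x = FlatMor.fibreDimAt f x := by
  rw [Dual3.localFibreDim, FlatMor.fibreDimAt, FlatMor.localDim, iInf_subtype']
  rfl

section Shriek

variable [IsNoetherian Y] {cp : DEt.Compactification f} [DCoh.HasRpush cp.fbar] {hc : DCoh.RpushPreservesQCoh cp.fbar}
  {a : DCoh.DQCoh Y ⥤ DCoh.DQCoh cp.Xbar}
  [∀ (U V : Scheme.{u}) (j : U ⟶ V) [IsOpenImmersion j], PreservesFiniteLimits (Scheme.Modules.restrictFunctor j)]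

/-- The upper shriek of the structure sheaf is the algebraic one on every chart. -/
theorem nonempty_restrict_chart (adj : DCoh.RpushQ cp.fbar hc ⊣ a) (O : DCoh.DQCoh Y)
    (hO : Nonempty (O.obj ≅ DCoh.inD Y (Coh.structureModule Y))) (c : Chart f x) (P : Pres c.A c.B)
    [PreservesFiniteLimits (tilde.functor (CommRingCat.of c.B))] :
    Nonempty ((DCoh.restrictD c.j).obj ((Dual3.shriekC cp a).obj O) ≅
      (DCoh.tildeD (CommRingCat.of c.B)).obj P.omega) := by
  obtain ⟨e⟩ := hO
  haveI : PreservesFiniteLimits (tilde.functor (CommRingCat.of c.A)) := TildeD.preservesFiniteLimits_tilde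
  obtain ⟨t⟩ := nonempty_restrictD_inD_unit c.i
  have hb : Dual3.IsBddBelowQ Y O :=
    ⟨0, DerivedCategory.TStructure.t.isGE_of_iso e.symm 0⟩
  exact nonempty_restrict_shriekC cp adj c.i c.j c.w P.ψ P.hψ P.Rψ P.adj O hb _
    ((DCoh.restrictD c.i).mapIso e ≪≫ t)

/-- The stalks of the upper shriek of the structure sheaf. -/
theorem nonempty_stalk_chart (adj : DCoh.RpushQ cp.fbar hc ⊣ a) (O : DCoh.DQCoh Y)
    (hO : Nonempty (O.obj ≅ DCoh.inD Y (Coh.structureModule Y))) (c : Chart f x) (P : Pres c.A c.B)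
    (q : PrimeSpectrum c.B) (i : ℤ) :
    Nonempty ((DCoh.HD ((Dual3.shriekC cp a).obj O) i).presheaf.stalk (c.j q) ≃+
      LocalizedModule q.asIdeal.primeCompl (Dual.HD c.B P.omega i)) := by
  haveI : ∀ (R : CommRingCat.{u}), PreservesFiniteLimits (tilde.functor R) := fun R =>
    TildeD.preservesFiniteLimits_tilde
  haveI := isNoetherianRing_total c
  obtain ⟨e⟩ := nonempty_restrict_chart adj O hO c P
  let S := X.presheaf.stalk (c.j q)
  haveI : DRing.HasLBaseChange (chartToStalk c.j q) := DRingLib.hasLBaseChange _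
  obtain ⟨s⟩ := exists_stalk_HD_equiv c.j e q i
  letI : Algebra c.B S := (chartToStalk c.j q).toAlgebra
  haveI : IsLocalization.AtPrime S q.asIdeal := isLocalization_chartToStalk c.j q
  haveI : DRing.HasLBaseChange (algebraMap c.B S) := ‹_›
  obtain ⟨t⟩ := DualCxLib.nonempty_HD_lbc q.asIdeal.primeCompl S P.omega i
  exact ⟨(s.symm.trans t).toAddEquiv.trans
    (IsLocalizedModule.linearEquiv q.asIdeal.primeCompl (TensorProduct.mk c.B S (Dual.HD c.B P.omega i) 1)
      (LocalizedModule.mkLinearMap q.asIdeal.primeCompl (Dual.HD c.B P.omega i))).toAddEquiv⟩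

end Shriek

end Groth.Agent.ShriekBridge
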