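import Groth.Agent.ShriekBridge.GorBCLocal
import Groth.Agent.S3625
import Groth.Agent.S7172
import Groth.Agent.S14008

/-!
# Base change of the relative dualizing complex of a proper flat Gorenstein morphism
-/

set_option autoImplicit false
set_option linter.style.haveILetI false
set_option linter.unusedSectionVars false
set_option backward.isDefEq.respectTransparency false
set_option maxHeartbeats 4000000

universe u

open CategoryTheory CategoryTheory.Limits AlgebraicGeometry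
open Groth.Agent.DCohLib Groth.Agent.DCohMore Groth.Agent.TwistShriek Groth.Agent.FMKLib

attribute [local instance] HasDerivedCategory.standard

noncomputable section

namespace Groth.Agent.ShriekBridge

variable {S X Y X' : Scheme.{u}}

/-- The base change of a proper flat Gorenstein morphism. -/
theorem isGorensteinMor_baseChange {b : Y ⟶ S} {a : X ⟶ S} {p : X' ⟶ X} {q : X' ⟶ Y} (hsq : IsPullback q p b a)
    [LocallyOfFiniteType b] [LocallyOfFiniteType a] (hG : Dual3.IsGorensteinMor b) : Dual3.IsGorensteinMor p :=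
  fun x => (S3625.result Y S X' X b a p q hsq
    (fun y =>
      haveI : LocallyOfFiniteType (b.fiberToSpecResidueField y) :=
        MorphismProperty.pullback_snd (P := @LocallyOfFiniteType) _ _ ‹LocallyOfFiniteType b›
      LocallyOfFiniteType.isLocallyNoetherian (b.fiberToSpecResidueField y)) x).1 (hG (q x))

/-- Composites of direct images on `D_QCoh`. -/
theorem nonempty_rpushQ_comp {A B C : Scheme.{u}} (k : A ⟶ B) (h : B ⟶ C) [DCoh.HasRpush k] [DCoh.HasRpush h]
    [DCoh.HasRpush (k ≫ h)] (hk : DCoh.RpushPreservesQCoh k) (hh : DCoh.RpushPreservesQCoh h)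
    (hkh : DCoh.RpushPreservesQCoh (k ≫ h)) :
    Nonempty (DCoh.RpushQ k hk ⋙ DCoh.RpushQ h hh ≅ DCoh.RpushQ (k ≫ h) hkh) := by
  obtain ⟨c⟩ := nonempty_rpushCompIso k h
  exact ⟨NatIso.ofComponents (fun K => ObjectProperty.isoMk _ (c.app K.obj))
    fun φ => ObjectProperty.hom_ext _ (c.hom.naturality φ.hom)⟩

section Conj

variable {A B A' B' : Type*} [Category A] [Category B] [Category A'] [Category B'] {F : A ⥤ B} {F' : A' ⥤ B'}
  {G H : B' ⥤ B} {G' H' : A' ⥤ A}

theorem eConj_eConj (e : G' ⋙ F ≅ F' ⋙ G) (θ : G ≅ H) (θ' : G' ≅ H') :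
    eConj (eConj e θ θ') θ.symm θ'.symm = e := by
  ext x
  simp only [eConj, Iso.trans_hom, NatTrans.comp_app, Functor.isoWhiskerRight_hom, Functor.whiskerRight_app,
    Iso.symm_hom, Iso.symm_inv, Functor.isoWhiskerLeft_hom, Functor.whiskerLeft_app, 
    Category.assoc]
  rw [← Functor.map_comp_assoc, Iso.hom_inv_id_app, CategoryTheory.Functor.map_id]
  erw [Category.id_comp, Iso.hom_inv_id_app, Category.comp_id]

end Conj

/-- The upper shriek of a proper flat Gorenstein morphism commutes with base change along any morphism of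
Noetherian schemes for which the base change is Gorenstein. -/
theorem nonempty_shriek_baseChange' [IsNoetherian S] [IsNoetherian X] {b : Y ⟶ S} {a : X ⟶ S} {p : X' ⟶ X}
    {q : X' ⟶ Y} (hsq : IsPullback q p b a) [IsProper b] [Flat b]
    (hG : Dual3.IsGorensteinMor b) (hG' : Dual3.IsGorensteinMor p)
    [DCoh.HasRpush b] {hRb : DCoh.RpushPreservesQCoh b} {sh : DCoh.DQCoh S ⥤ DCoh.DQCoh Y}
    (adj : DCoh.RpushQ b hRb ⊣ sh) [DCoh.HasRpush p] {hR : DCoh.RpushPreservesQCoh p}
    {sh' : DCoh.DQCoh X ⥤ DCoh.DQCoh X'} (adj' : DCoh.RpushQ p hR ⊣ sh') [DCoh.HasLpull q]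
    [∀ (U V : Scheme.{u}) (j : U ⟶ V) [IsOpenImmersion j], PreservesFiniteLimits (Scheme.Modules.restrictFunctor j)]
    (OS : DCoh.DQCoh S) (hOS : Nonempty (OS.obj ≅ DCoh.inD S (Coh.structureModule S)))
    (OX : DCoh.DQCoh X) (hOX : Nonempty (OX.obj ≅ DCoh.inD X (Coh.structureModule X))) :
    Nonempty ((DCoh.Lpull q).obj (sh.obj OS).obj ≅ (sh'.obj OX).obj) := by
  haveI : IsLocallyNoetherian Y := LocallyOfFiniteType.isLocallyNoetherian b
  haveI : CompactSpace Y := QuasiCompact.compactSpace_of_compactSpace b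
  haveI : IsNoetherian Y := {}
  haveI : LocallyOfFinitePresentation b := S14008.lfp_of_lft b
  haveI : IsProper p := MorphismProperty.of_isPullback (P := @IsProper) hsq ‹IsProper b›
  haveI : Flat p := MorphismProperty.of_isPullback (P := @Flat) hsq ‹Flat b›
  haveI : LocallyOfFinitePresentation p :=
    MorphismProperty.of_isPullback (P := @LocallyOfFinitePresentation) hsq ‹LocallyOfFinitePresentation b›
  haveI : IsLocallyNoetherian X' := LocallyOfFiniteType.isLocallyNoetherian p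
  haveI : CompactSpace X' := QuasiCompact.compactSpace_of_compactSpace p
  haveI : IsNoetherian X' := {}
  haveI : QuasiCompact a := quasiCompact_of_compactSpace a
  haveI : QuasiSeparated a := inferInstance
  haveI : QuasiCompact q := MorphismProperty.of_isPullback (P := @QuasiCompact) hsq.flip ‹QuasiCompact a›
  haveI : QuasiSeparated q := MorphismProperty.of_isPullback (P := @QuasiSeparated) hsq.flip ‹QuasiSeparated a›
  haveI := hasLpull a; haveI := BC.hasRpush a; haveI := BC.hasRpush q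
  obtain ⟨e, hξ⟩ := exists_isIso_xi (hg := rpushQC a) (hg' := rpushQC q) hsq BC.TI.of_flat_left adj adj'
  let L := Dual3.LpullQ a (lpullQCoh a)
  haveI : IsIso (xiMap adj adj' e (L.obj OS)) := hξ _
  let μ := bcAdjMap adj adj' e (adjQ a (rpushQC a)) (adjQ q (rpushQC q)) OS
  haveI : IsIso ((ObjectProperty.ι _).map μ) := by
    refine isIso_of_restrictD _ fun z => ?_
    obtain ⟨_, ⟨S₀ : S.Opens, hS₀, rfl⟩, hzS, -⟩ :=
      S.isBasis_affineOpens.exists_subset_of_mem_open (a := a (p z)) (Set.mem_univ _) isOpen_univ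
    obtain ⟨_, ⟨X₀ : X.Opens, hX₀, rfl⟩, hzX, hX₀S⟩ :=
      X.isBasis_affineOpens.exists_subset_of_mem_open (a := p z) (u := (a ⁻¹ᵁ S₀ : X.Opens)) hzS (a ⁻¹ᵁ S₀).isOpen
    haveI : IsAffine (S₀ : Scheme.{u}) := hS₀
    haveI : IsAffine (X₀ : Scheme.{u}) := hX₀
    let j := X₀.ι
    haveI : QuasiCompact j := quasiCompact_of_compactSpace j
    let g₀ : (X₀ : Scheme.{u}) ⟶ S₀ := a.resLE S₀ X₀ hX₀S
    have hg₀ : g₀ ≫ S₀.ι = j ≫ a := a.resLE_comp_ι hX₀S
    let X₀' := Limits.pullback p j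
    let j' : X₀' ⟶ X' := Limits.pullback.fst p j
    let p₀ : X₀' ⟶ X₀ := Limits.pullback.snd p j
    have sqj : IsPullback j' p₀ p j := IsPullback.of_hasPullback _ _
    have souter : IsPullback (j' ≫ q) p₀ b (j ≫ a) := sqj.paste_horiz hsq
    haveI : IsOpenImmersion j' := MorphismProperty.of_isPullback (P := @IsOpenImmersion) sqj.flip inferInstance
    haveI : QuasiCompact j' := MorphismProperty.of_isPullback (P := @QuasiCompact) sqj.flip ‹QuasiCompact j›
    haveI : IsProper p₀ := MorphismProperty.of_isPullback (P := @IsProper) sqj ‹IsProper p›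
    haveI : Flat p₀ := MorphismProperty.of_isPullback (P := @Flat) sqj ‹Flat p›
    haveI : IsNoetherian (X₀ : Scheme.{u}) :=
      haveI := isLocallyNoetherian_of_isOpenImmersion j
      {}
    haveI : IsLocallyNoetherian X₀' := LocallyOfFiniteType.isLocallyNoetherian p₀
    haveI : CompactSpace X₀' := QuasiCompact.compactSpace_of_compactSpace p₀
    haveI : IsNoetherian X₀' := {}
    haveI : QuasiCompact (j ≫ a) := inferInstance
    haveI : QuasiCompact (j' ≫ q) := inferInstance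
    haveI := hasLpull j; haveI := hasLpull j'; haveI := BC.hasRpush j; haveI := BC.hasRpush j'
    haveI := BC.hasRpush p₀; haveI := hasLpull (j ≫ a); haveI := hasLpull (j' ≫ q)
    haveI := BC.hasRpush (j ≫ a); haveI := BC.hasRpush (j' ≫ q)
    haveI := isLeftAdjoint_rpushQ' p₀
    let adj₀ := Adjunction.ofIsLeftAdjoint (DCoh.RpushQ p₀ (rpushQC p₀))
    obtain ⟨ej, hξj⟩ := exists_isIso_xi (hg := rpushQC j) (hg' := rpushQC j') sqj BC.TI.of_flat adj' adj₀
    let ea := eComp e ej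
    have hξa : ∀ M, IsIso (xiMap adj adj₀ ea M) := fun M => by
      haveI : IsIso (xiMap adj' adj₀ ej M) := hξj M
      haveI : IsIso (xiMap adj adj' e ((DCoh.RpushQ j (rpushQC j)).obj M)) := hξ _
      rw [xiMap_comp adj adj']
      infer_instance
    obtain ⟨θ⟩ := nonempty_rpushQ_comp j a (rpushQC j) (rpushQC a) (rpushQC (j ≫ a))
    obtain ⟨θ'⟩ := nonempty_rpushQ_comp j' q (rpushQC j') (rpushQC q) (rpushQC (j' ≫ q))
    let ec := eConj ea θ θ'
    have hξc : ∀ M, IsIso (xiMap adj adj₀ ec M) := fun M => by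
      haveI := hξa M
      exact isIso_xiMap_conj adj adj₀ ea θ θ' M
    let Lc := Dual3.LpullQ (j ≫ a) (lpullQCoh (j ≫ a))
    haveI : IsIso (xiMap adj adj₀ ec (Lc.obj OS)) := hξc _
    have hN : Dual3.IsInvertibleD (
        ((DCoh.RpushQ p₀ (rpushQC p₀)).rightAdjoint.obj (Lc.obj OS)).obj) := by
      obtain ⟨eOS⟩ := hOS
      obtain ⟨u⟩ := TwistFam.nonempty_lpull_structure (j ≫ a)
      exact isInvertibleD_dualizingCx p₀ (isGorensteinMor_baseChange sqj hG') adj₀ (Lc.obj OS)
        ⟨(DCoh.Lpull (j ≫ a)).mapIso eOS ≪≫ u⟩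
    haveI hloc := isIso_bcMap_gorenstein_local souter adj adj₀ ec hξc S₀.ι g₀ hg₀ OS hOS
      (isInvertibleD_dualizingCx b hG adj OS hOS) hN
    let Lj := Dual3.LpullQ j (lpullQCoh j)
    let Lj' := Dual3.LpullQ j' (lpullQCoh j')
    let aa := (adjQ a (rpushQC a)).comp (adjQ j (rpushQC j))
    let aa' := (adjQ q (rpushQC q)).comp (adjQ j' (rpushQC j'))
    haveI : IsIso (xiMap adj adj₀ ea ((L ⋙ Lj).obj OS)) := hξa _
    haveI : IsIso (xiMap adj adj₀ (eConj ec θ.symm θ'.symm) ((L ⋙ Lj).obj OS)) := by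
      rw [eConj_eConj]; exact hξa _
    haveI hb : IsIso (bcAdjMap adj adj₀ (eConj ec θ.symm θ'.symm) aa aa' OS) :=
      isIso_bcAdjMap_conj adj adj₀ ec (adjQ (j ≫ a) (rpushQC (j ≫ a))) (adjQ (j' ≫ q) (rpushQC (j' ≫ q)))
        θ.symm θ'.symm aa aa' OS (fun M => by rw [eConj_eConj]; exact hξa M)
    have ha : IsIso (bcAdjMap adj adj₀ ea aa aa' OS) := by
      simp only [ec, eConj_eConj] at hb
      exact hb
    haveI : IsIso (xiMap adj' adj₀ ej (Lj.obj (L.obj OS))) := hξj _
    haveI : IsIso (bcAdjMap adj' adj₀ ej (adjQ j (rpushQC j)) (adjQ j' (rpushQC j')) (L.obj OS)) :=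
      isIso_bcMap_open sqj adj' adj₀ ej hξj _ _ _ fun C hC h =>
        suppHyp_perfectMor p hR sh' adj' (S7172.result p) (L.obj OS) j.opensRange
          (isCompact_range j.continuous) C hC h
    rw [bcAdjMap_comp adj adj' e (adjQ a (rpushQC a)) (adjQ q (rpushQC q)) adj₀ ej] at ha
    haveI : IsIso (Lj'.map μ ≫
      bcAdjMap adj' adj₀ ej (adjQ j (rpushQC j)) (adjQ j' (rpushQC j')) (L.obj OS)) := ha
    haveI : IsIso (Lj'.map μ) :=
      IsIso.of_isIso_comp_right _ (bcAdjMap adj' adj₀ ej (adjQ j (rpushQC j)) (adjQ j' (rpushQC j')) (L.obj OS))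
    haveI : IsIso ((DCoh.Lpull j').map μ.hom) := (ObjectProperty.ι _).map_isIso (Lj'.map μ)
    refine ⟨j'.opensRange, ?_, isIso_restrictD_opensRange j' μ.hom⟩
    obtain ⟨w, hw, -⟩ := Scheme.exists_preimage_of_isPullback sqj z ⟨p z, hzX⟩ rfl
    exact ⟨w, hw⟩
  haveI : IsIso μ := isIso_of_reflects_iso μ (ObjectProperty.ι _)
  obtain ⟨eOS⟩ := hOS
  obtain ⟨eOX⟩ := hOX
  obtain ⟨u⟩ := TwistFam.nonempty_lpull_structure a
  exact ⟨(ObjectProperty.ι _).mapIso (asIso μ ≪≫
    sh'.mapIso (ObjectProperty.isoMk _ ((DCoh.Lpull a).mapIso eOS ≪≫ u ≪≫ eOX.symm)))⟩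


/-- The upper shriek of a proper flat Gorenstein morphism commutes with base change along morphisms of finite
type. -/
theorem nonempty_shriek_baseChange [IsNoetherian S] [IsNoetherian X] {b : Y ⟶ S} {a : X ⟶ S} {p : X' ⟶ X}
    {q : X' ⟶ Y} (hsq : IsPullback q p b a) [IsProper b] [Flat b] [LocallyOfFiniteType a]
    (hG : Dual3.IsGorensteinMor b)
    [DCoh.HasRpush b] {hRb : DCoh.RpushPreservesQCoh b} {sh : DCoh.DQCoh S ⥤ DCoh.DQCoh Y}
    (adj : DCoh.RpushQ b hRb ⊣ sh) [DCoh.HasRpush p] {hR : DCoh.RpushPreservesQCoh p}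
    {sh' : DCoh.DQCoh X ⥤ DCoh.DQCoh X'} (adj' : DCoh.RpushQ p hR ⊣ sh') [DCoh.HasLpull q]
    [∀ (U V : Scheme.{u}) (j : U ⟶ V) [IsOpenImmersion j], PreservesFiniteLimits (Scheme.Modules.restrictFunctor j)]
    (OS : DCoh.DQCoh S) (hOS : Nonempty (OS.obj ≅ DCoh.inD S (Coh.structureModule S)))
    (OX : DCoh.DQCoh X) (hOX : Nonempty (OX.obj ≅ DCoh.inD X (Coh.structureModule X))) :
    Nonempty ((DCoh.Lpull q).obj (sh.obj OS).obj ≅ (sh'.obj OX).obj) :=
  nonempty_shriek_baseChange' hsq hG (isGorensteinMor_baseChange hsq hG) adj adj' OS hOS OX hOX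

end Groth.Agent.ShriekBridge
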