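import Groth.Agent.PicProjLib.Chart
import Groth.Agent.ProjTwistLib.Mul
import Groth.Agent.ProjSmoothLib.Basic
import Groth.Agent.CompleteCurve.ProjSpace
import Groth.Agent.ParaFLib.Gen
import Groth.Agent.DCohLib.ProjMap

/-!
# The affine chart of projective space, and twisting sheaves on it
-/

set_option autoImplicit false
set_option backward.isDefEq.respectTransparency false
set_option linter.style.haveILetI false
set_option linter.unusedSectionVars false

universe u

open CategoryTheory CategoryTheory.Limits AlgebraicGeometry MvPolynomial HomogeneousLocalization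
open Groth.Agent.AmpleEmb Groth.Agent.AmpleLib Groth.Agent.ParaFLib

noncomputable section

namespace Groth.Agent.ShriekBridge

variable (n : ℕ) (R : Type u) [CommRing R]

/-- Affine space as the chart `x₀ ≠ 0` of projective space. -/
def chartP : Spec (CommRingCat.of (MvPolynomial (Fin n) R)) ⟶ CohB1.ProjSpace n R :=
  Spec.map (CommRingCat.ofHom (PicProjLib.awayToPoly n R 0)) ≫ ProjMap.chart 0

instance : IsIso (Spec.map (CommRingCat.ofHom (PicProjLib.awayToPoly n R 0))) :=
  ⟨Spec.map (CommRingCat.ofHom (PicProjLib.polyToAway n R 0)),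
    by rw [← Spec.map_comp, ← CommRingCat.ofHom_comp, PicProjLib.awayToPoly_comp]; exact Spec.map_id _,
    by rw [← Spec.map_comp, ← CommRingCat.ofHom_comp, PicProjLib.polyToAway_comp]; exact Spec.map_id _⟩

instance : IsOpenImmersion (chartP n R) := by
  unfold chartP
  infer_instance

theorem chartP_toSpec : chartP n R ≫ CohB1.ProjSpace.toSpec n R =
    Spec.map (CommRingCat.ofHom (algebraMap R (MvPolynomial (Fin n) R))) := by
  rw [chartP, Category.assoc, ProjMap.awayι_toSpec, ← Spec.map_comp, ← Spec.map_comp, ← CommRingCat.ofHom_comp,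
    ← CommRingCat.ofHom_comp]
  congr 2
  refine RingHom.ext fun r => ?_
  have h : PicProjLib.constAway n R 0 r = PicProjLib.polyToAway n R 0 (MvPolynomial.C r) :=
    (eval₂Hom_C _ _ r).symm
  show PicProjLib.awayToPoly n R 0 (PicProjLib.constAway n R 0 r) = algebraMap R (MvPolynomial (Fin n) R) r
  rw [h, ← RingHom.comp_apply, PicProjLib.awayToPoly_comp]
  rfl

theorem range_chartP : Set.range (chartP n R) ⊆ (stdOpen n R 0 : Set (CohB1.ProjSpace n R)) := by
  rintro _ ⟨x, rfl⟩
  have h : (ProjMap.chart (R := R) (0 : Fin (n + 1))).opensRange = stdOpen n R 0 :=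
    Proj.opensRange_awayι _ _ (ProjMap.X_mem 0) one_pos
  exact h.le ⟨Spec.map (CommRingCat.ofHom (PicProjLib.awayToPoly n R 0)) x, rfl⟩

/-- Twisting sheaves have a generator on the chart. -/
theorem exists_gen_twist (d : ℤ) : ∃ s : Γ(Twist.twistProjSpace n R d, stdOpen n R 0), Gen (stdOpen n R 0) s := by
  have hm : ∀ m : ℕ, (X 0 : MvPolynomial (Fin (n + 1)) R) ^ m ∈ CohB1.polyGrading n R m := fun m => by
    simpa using SetLike.pow_mem_graded m (ProjMap.X_mem (R := R) (0 : Fin (n + 1)))
  have hle : ∀ m : ℕ, stdOpen n R 0 ≤ Proj.basicOpen (CohB1.polyGrading n R) ((X 0 : MvPolynomial (Fin (n + 1)) R) ^ m) := by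
    intro m
    rcases Nat.eq_zero_or_pos m with rfl | h
    · rw [pow_zero, Proj.basicOpen_one]
      exact le_top
    · rw [Proj.basicOpen_pow _ _ _ h]
  exact ⟨_, ProjTwistLib.gen_frac (⟨_, hm d.toNat⟩ : CohB1.polyGrading n R d.toNat)
    (⟨_, hm (-d).toNat⟩ : CohB1.polyGrading n R (-d).toNat) d (by omega) (hle _) (hle _)⟩

/-- Twisting sheaves are trivial on the chart. -/
theorem nonempty_pullback_chart_twist (d : ℤ) :
    Nonempty ((Scheme.Modules.pullback (chartP n R)).obj (Twist.twistProjSpace n R d) ≅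
      Coh.structureModule (Spec (CommRingCat.of (MvPolynomial (Fin n) R)))) := by
  let V := stdOpen n R 0
  obtain ⟨s, hs⟩ := exists_gen_twist n R d
  obtain ⟨φ⟩ := nonempty_iso_of_gen hs
  let h : Spec (CommRingCat.of (MvPolynomial (Fin n) R)) ⟶ V := IsOpenImmersion.lift V.ι (chartP n R) (by
    rw [Scheme.Opens.range_ι]
    exact range_chartP n R)
  have hh : h ≫ V.ι = chartP n R := IsOpenImmersion.lift_fac _ _ _
  exact ⟨(eqToIso (by rw [hh])).app _ ≪≫ ((Scheme.Modules.pullbackComp h V.ι).symm).app _ ≪≫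
    (Scheme.Modules.pullback h).mapIso (((Scheme.Modules.restrictFunctorIsoPullback V.ι).symm).app _ ≪≫ φ) ≪≫
    DCohLib.pullStructureIso h⟩

theorem flat_toSpec : Flat (CohB1.ProjSpace.toSpec n R) := by
  haveI := ProjSmoothLib.smooth_toSpec n R
  infer_instance

theorem lfp_toSpec : LocallyOfFinitePresentation (CohB1.ProjSpace.toSpec n R) := by
  haveI := ProjSmoothLib.smooth_toSpec n R
  infer_instance

end Groth.Agent.ShriekBridge
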