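import Groth.Agent.ShriekBridge.Perfect
import Groth.Agent.TwistShriek.KernelAdj
import Groth.Agent.TwistShriek.PerfPull
import Groth.Agent.TwistShriek.ShriekFlatBC
import Groth.Agent.DCohLib.PullPerf
import Groth.Agent.FMPerfLib.Basic
import Groth.Agent.TildeD.TensorQCoh

/-!
# Kernels twisted by relative dualizing complexes
-/

set_option autoImplicit false
set_option linter.style.haveILetI false
set_option linter.unusedSectionVars false
set_option backward.isDefEq.respectTransparency false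
set_option maxHeartbeats 1000000

universe u

open CategoryTheory CategoryTheory.Limits AlgebraicGeometry
open Groth.Agent.DCohLib Groth.Agent.DCohMore Groth.Agent.TwistShriek

attribute [local instance] HasDerivedCategory.standard

noncomputable section

namespace Groth.Agent.ShriekBridge

section Dual

variable {X : Scheme.{u}} (K : CochainComplex X.Modules ℤ) (hK : DCoh.IsPerfect (DerivedCategory.Q.obj K))
  [DCoh.HasLTensorCx K] [DCoh.HasRSheafHom K]

include hK in
/-- Duals of perfect complexes are perfect. -/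
theorem isPerfect_dual : DCoh.IsPerfect ((DCoh.RSheafHom K).obj (DCoh.inD X (Coh.structureModule X))) := by
  let K' := (resX X).obj K
  haveI := hasRSheafHom_of_isKFlat K' (isKFlat_resX K)
  let eK : DerivedCategory.Q.obj K' ≅ DerivedCategory.Q.obj K := (resIso X).app K
  obtain ⟨t⟩ := nonempty_lTensor_of_iso (E := K) (E' := K') eK
  let r : DCoh.RSheafHom K ≅ DCoh.RSheafHom K' :=
    ((DCoh.RSheafHomAdj K).ofNatIsoLeft t.symm).rightAdjointUniq (DCoh.RSheafHomAdj K')
  exact isPerfect_iso (r.app _).symm (isPerfect_rSheafHom_unit K' (isKFlat_resX K) (isPerfect_iso eK.symm hK))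

include hK in
/-- Tensoring with the dual of a perfect complex is internal Hom out of it. -/
theorem nonempty_lTensor_dual (W : CochainComplex X.Modules ℤ) [DCoh.HasLTensorCx W] :
    Nonempty ((DCoh.LTensorCx W).obj ((DCoh.RSheafHom K).obj (DCoh.inD X (Coh.structureModule X))) ≅
      (DCoh.RSheafHom K).obj (DCoh.toD X W)) := by
  let O := DCoh.inD X (Coh.structureModule X)
  let D := (resX X).obj (DerivedCategory.Q.objPreimage ((DCoh.RSheafHom K).obj O))
  let eD : DerivedCategory.Q.obj D ≅ (DCoh.RSheafHom K).obj O := resXIso _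
  haveI := hasRSheafHom_of_isKFlat D (isKFlat_resX _)
  obtain ⟨rD⟩ := nonempty_lTensor_iso_rSheafHom K hK D eD
  obtain ⟨s⟩ := RelPCLib.nonempty_lTensor_symm W D
  exact ⟨(DCoh.LTensorCx W).mapIso eD.symm ≪≫ s ≪≫ rD.app _⟩

end Dual

variable {S X Y : Scheme.{u}}

/-- Fourier-Mukai functors with quasi-coherent kernels preserve quasi-coherence. -/
theorem isQCohD_phi [QuasiSeparatedSpace Y] (a : X ⟶ S) (b : Y ⟶ S) [QuasiCompact (pullback.snd a b)]
    [QuasiSeparated (pullback.snd a b)] (K : CochainComplex (pullback a b).Modules ℤ)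
    (hK : DCoh.IsQCohD (DCoh.toD _ K)) [DCoh.HasLpull (pullback.fst a b)] [DCoh.HasLTensorCx K]
    [DCoh.HasRpush (pullback.snd a b)] (M : DCoh.D X) (hM : DCoh.IsQCohD M) :
    DCoh.IsQCohD ((FMK.phi a b K).obj M) :=
  isQCohD_rpush (pullback.snd a b) _
    (TildeD.isQCohD_lTensorCx K hK _ (TildeD.isQCohD_lpull (pullback.fst a b) M hM))

/-- The relative dualizing complex of a proper flat Gorenstein morphism is invertible. -/
theorem isInvertibleD_dualizingCx [IsNoetherian S] (a : X ⟶ S) [IsProper a] [Flat a]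
    (hG : Dual3.IsGorensteinMor a) [DCoh.HasRpush a] {hRa : DCoh.RpushPreservesQCoh a}
    {sh : DCoh.DQCoh S ⥤ DCoh.DQCoh X} (adj : DCoh.RpushQ a hRa ⊣ sh)
    [∀ (U V : Scheme.{u}) (j : U ⟶ V) [IsOpenImmersion j], PreservesFiniteLimits (Scheme.Modules.restrictFunctor j)]
    (OS : DCoh.DQCoh S) (hOS : Nonempty (OS.obj ≅ DCoh.inD S (Coh.structureModule S))) :
    Dual3.IsInvertibleD (sh.obj OS).obj := by
  haveI : ∀ (R : CommRingCat.{u}), PreservesFiniteLimits (tilde.functor R) := fun R => TildeD.preservesFiniteLimits_tilde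
  let c : DEt.Compactification a :=
    { Xbar := X, j := 𝟙 X, fbar := a, isOpenImmersion := inferInstance, isProper := inferInstance,
      fac := Category.id_comp a }
  haveI : DCoh.HasRpush c.fbar := ‹DCoh.HasRpush a›
  refine isInvertibleD_of_locally _ fun x => ?_
  obtain ⟨U, hxU, hU⟩ := (gorensteinAt_iff_invertible (cp := c) (hc := hRa) adj OS hOS x).1 (hG x)
  refine ⟨U, hxU, fun y => ?_⟩
  obtain ⟨W, n, hW, ⟨i⟩⟩ := hU y
  exact ⟨W, n, hW, ⟨(DCoh.restrictD W.ι).mapIso ((DCoh.restrictD U.ι).mapIso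
    ((restrictDId X).app (sh.obj OS).obj).symm) ≪≫ i⟩⟩

/-- The upper shriek of a projection is pulled back from the factor. -/
theorem nonempty_shriek_snd [IsNoetherian S] (a : X ⟶ S) (b : Y ⟶ S) [IsProper a] [Flat b] [IsNoetherian Y]
    [CompactSpace (pullback a b : Scheme.{u})]
    [DCoh.HasRpush a] {hRa : DCoh.RpushPreservesQCoh a} {sh : DCoh.DQCoh S ⥤ DCoh.DQCoh X}
    (adj : DCoh.RpushQ a hRa ⊣ sh) [DCoh.HasRpush (pullback.snd a b)]
    {hR : DCoh.RpushPreservesQCoh (pullback.snd a b)} {sh' : DCoh.DQCoh Y ⥤ DCoh.DQCoh (pullback a b)}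
    (adj' : DCoh.RpushQ (pullback.snd a b) hR ⊣ sh') [DCoh.HasLpull (pullback.fst a b)]
    (OS : DCoh.DQCoh S) (hOS : Nonempty (OS.obj ≅ DCoh.inD S (Coh.structureModule S)))
    (OY : DCoh.DQCoh Y) (hOY : Nonempty (OY.obj ≅ DCoh.inD Y (Coh.structureModule Y))) :
    Nonempty ((DCoh.Lpull (pullback.fst a b)).obj (sh.obj OS).obj ≅ (sh'.obj OY).obj) := by
  let p := pullback.fst a b
  let q := pullback.snd a b
  haveI : IsProper q := MorphismProperty.pullback_snd a b ‹IsProper a›
  let c : DEt.Compactification a :=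
    { Xbar := X, j := 𝟙 X, fbar := a, isOpenImmersion := inferInstance, isProper := inferInstance,
      fac := Category.id_comp a }
  let c' : DEt.Compactification q :=
    { Xbar := pullback a b, j := 𝟙 _, fbar := q, isOpenImmersion := inferInstance, isProper := inferInstance,
      fac := Category.id_comp q }
  haveI : DCoh.HasRpush c.fbar := ‹DCoh.HasRpush a›
  haveI : DCoh.HasRpush c'.fbar := ‹DCoh.HasRpush q›
  haveI : PreservesFiniteLimits (Scheme.Modules.restrictFunctor c.j) :=
    inferInstanceAs (PreservesFiniteLimits (Scheme.Modules.restrictFunctor (𝟙 X)))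
  haveI : PreservesFiniteLimits (Scheme.Modules.restrictFunctor c'.j) :=
    inferInstanceAs (PreservesFiniteLimits (Scheme.Modules.restrictFunctor (𝟙 _)))
  haveI := hasLpull b
  obtain ⟨bc⟩ := nonempty_shriekC_flatBaseChange (IsPullback.of_hasPullback a b) c c' adj adj' (lpullQCoh b)
  obtain ⟨eS⟩ := hOS
  obtain ⟨eY⟩ := hOY
  have hb : Dual3.IsBddBelowQ S OS := ⟨0, DerivedCategory.TStructure.t.isGE_of_iso eS.symm 0⟩
  obtain ⟨u⟩ := TwistFam.nonempty_lpull_structure b
  let eb : (Dual3.LpullQ b (lpullQCoh b)).obj OS ≅ OY :=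
    ObjectProperty.isoMk _ ((DCoh.Lpull b).mapIso eS ≪≫ u ≪≫ eY.symm)
  exact ⟨(DCoh.Lpull p).mapIso ((restrictDId X).app (sh.obj OS).obj).symm ≪≫ bc.app ⟨OS, hb⟩ ≪≫
    (DCoh.restrictD (𝟙 _)).mapIso ((ObjectProperty.ι _).mapIso (sh'.mapIso eb)) ≪≫
    (restrictDId _).app _⟩

end Groth.Agent.ShriekBridge
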