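import Groth.Agent.ShriekBridge.GorBC

/-!
# Left adjoints of kernel functors
-/

set_option autoImplicit false
set_option linter.style.haveILetI false
set_option linter.unusedSectionVars false
set_option backward.isDefEq.respectTransparency false
set_option maxHeartbeats 1000000

universe u

open CategoryTheory CategoryTheory.Limits AlgebraicGeometry
open Groth.Agent.DCohLib Groth.Agent.DCohMore Groth.Agent.TwistShriek Groth.Agent.KFlat Groth.Agent.FMKLib

attribute [local instance] HasDerivedCategory.standard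

noncomputable section

namespace Groth.Agent.ShriekBridge

variable {X : Scheme.{u}}
  [∀ (U V : Scheme.{u}) (j : U ⟶ V) [IsOpenImmersion j], PreservesFiniteLimits (Scheme.Modules.restrictFunctor j)]

/-- Inverse images of invertible objects are invertible. -/
theorem isInvertibleD_lpull {Y : Scheme.{u}} (f : X ⟶ Y) [DCoh.HasLpull f] {K : DCoh.D Y}
    (h : Dual3.IsInvertibleD K) : Dual3.IsInvertibleD ((DCoh.Lpull f).obj K) := by
  intro x
  obtain ⟨U, n, hx, ⟨e⟩⟩ := h (f x)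
  obtain ⟨s⟩ := nonempty_shift_inD (X := (U : Scheme.{u})) n
  let V := f ⁻¹ᵁ U
  haveI := DCohLib.hasLpull V.ι
  haveI := DCohLib.hasLpull U.ι
  haveI := DCohLib.hasLpull (f ∣_ U)
  obtain ⟨c⟩ := nonempty_lpull_square V.ι f (f ∣_ U) U.ι (morphismRestrict_ι f U).symm
  obtain ⟨u⟩ := nonempty_lpull_uD (f ∣_ U) (-n)
  obtain ⟨s'⟩ := nonempty_shift_inD (X := (V : Scheme.{u})) n
  exact ⟨V, n, hx, ⟨((lpullRestrictNatIso V.ι).app _).symm ≪≫ c.app K ≪≫
    (DCoh.Lpull (f ∣_ U)).mapIso ((lpullRestrictNatIso U.ι).app K ≪≫ e ≪≫ s) ≪≫ u ≪≫ s'.symm⟩⟩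

/-- An invertible object tensored with its dual is the structure sheaf. -/
theorem nonempty_lTensor_dual_self (W : CochainComplex X.Modules ℤ) [DCoh.HasLTensorCx W] [DCoh.HasRSheafHom W]
    (hW : Dual3.IsInvertibleD (DCoh.toD X W)) :
    Nonempty ((DCoh.LTensorCx W).obj ((DCoh.RSheafHom W).obj (DCoh.inD X (Coh.structureModule X))) ≅
      DCoh.inD X (Coh.structureModule X)) := by
  let W' := (resX X).obj W
  have hW' : DCoh.IsKFlat W' := isKFlat_resX W
  haveI := hasRSheafHom_of_isKFlat W' hW'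
  let eW : DerivedCategory.Q.obj W' ≅ DerivedCategory.Q.obj W := (resIso X).app W
  obtain ⟨t⟩ := nonempty_lTensor_of_iso (E := W) (E' := W') eW
  let r : DCoh.RSheafHom W ≅ DCoh.RSheafHom W' :=
    ((DCoh.RSheafHomAdj W).ofNatIsoLeft t.symm).rightAdjointUniq (DCoh.RSheafHomAdj W')
  obtain ⟨J, η, hJ, hη⟩ := hres_modules X (unitCx X)
  haveI := hJ
  haveI : IsIso (DerivedCategory.Q.map η) :=
    (DerivedCategory.isIso_Q_map_iff_quasiIso (C := X.Modules) _).2 hη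
  haveI : QuasiIso ((hAdj W').counit.app J) := by
    refine quasiIso_of_local _ fun x => ?_
    obtain ⟨V, n, hx, ⟨e⟩⟩ := hW x
    obtain ⟨s⟩ := nonempty_shift_inD (X := (V : Scheme.{u})) n
    haveI : DCoh.HasLTensorCx ((resCx V.ι).obj W') := DCohLib.hasLTensorCx _
    haveI : DCoh.HasLTensorCx (shiftUnitCx (V : Scheme.{u}) (-n)) := DCohLib.hasLTensorCx _
    haveI := isEquivalence_lTensor_shiftUnit (X := (V : Scheme.{u})) (-n)
    obtain ⟨tV⟩ := nonempty_lTensor_of_iso (E := (resCx V.ι).obj W') (E' := shiftUnitCx (V : Scheme.{u}) (-n))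
      (s.symm ≪≫ e.symm ≪≫ (DCoh.restrictD V.ι).mapIso eW.symm ≪≫ restrictDQ V.ι W')
    haveI : (DCoh.LTensorCx ((resCx V.ι).obj W')).IsEquivalence := Functor.isEquivalence_of_iso tV
    exact ⟨V, hx, quasiIso_res_eps W' hW' J⟩
  haveI : IsIso (DerivedCategory.Q.map ((hAdj W').counit.app J)) :=
    (DerivedCategory.isIso_Q_map_iff_quasiIso (C := X.Modules) _).2 inferInstance
  haveI : IsIso (epsD W' hW' J) := by
    unfold epsD
    infer_instance
  obtain ⟨h⟩ := nonempty_rSheafHom_hCx W' hW' J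
  let oJ : DCoh.inD X (Coh.structureModule X) ≅ DerivedCategory.Q.obj J :=
    DCohLib.unitDIso ≪≫ asIso (DerivedCategory.Q.map η)
  exact ⟨t.symm.app _ ≪≫ (DCoh.LTensorCx W').mapIso (r.app _ ≪≫ (DCoh.RSheafHom W').mapIso oJ ≪≫ h.symm) ≪≫
    asIso (epsD W' hW' J) ≪≫ oJ.symm⟩

/-- Internal endomorphisms of an invertible object are trivial. -/
theorem nonempty_rSheafHom_self (W : CochainComplex X.Modules ℤ) [DCoh.HasLTensorCx W] [DCoh.HasRSheafHom W]
    (hW : Dual3.IsInvertibleD (DCoh.toD X W)) :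
    Nonempty ((DCoh.RSheafHom W).obj (DCoh.toD X W) ≅ DCoh.inD X (Coh.structureModule X)) := by
  obtain ⟨t⟩ := nonempty_lTensor_dual W (isPerfect_of_isInvertibleD hW) W
  obtain ⟨e⟩ := nonempty_lTensor_dual_self W hW
  exact ⟨t.symm ≪≫ e⟩

/-- Internal Hom from a twisted dual into the twist recovers the perfect complex. -/
theorem nonempty_rSheafHom_twist_dual (K W T : CochainComplex X.Modules ℤ) [DCoh.HasLTensorCx K]
    [DCoh.HasRSheafHom K] [DCoh.HasLTensorCx W] [DCoh.HasLTensorCx T] [DCoh.HasRSheafHom T]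
    (hK : DCoh.IsPerfect (DerivedCategory.Q.obj K)) (hW : Dual3.IsInvertibleD (DCoh.toD X W))
    (eT : DerivedCategory.Q.obj T ≅
      (DCoh.LTensorCx W).obj ((DCoh.RSheafHom K).obj (DCoh.inD X (Coh.structureModule X)))) :
    Nonempty ((DCoh.RSheafHom T).obj (DCoh.toD X W) ≅ DCoh.toD X K) := by
  let O := DCoh.inD X (Coh.structureModule X)
  let K' := (resX X).obj K
  haveI := hasRSheafHom_of_isKFlat K' (isKFlat_resX K)
  let eK : DerivedCategory.Q.obj K' ≅ DerivedCategory.Q.obj K := (resIso X).app K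
  obtain ⟨tK⟩ := nonempty_lTensor_of_iso (E := K) (E' := K') eK
  let rK : DCoh.RSheafHom K ≅ DCoh.RSheafHom K' :=
    ((DCoh.RSheafHomAdj K).ofNatIsoLeft tK.symm).rightAdjointUniq (DCoh.RSheafHomAdj K')
  let D := (resX X).obj (DerivedCategory.Q.objPreimage ((DCoh.RSheafHom K').obj O))
  let eD : DerivedCategory.Q.obj D ≅ (DCoh.RSheafHom K').obj O := resXIso _
  haveI := hasRSheafHom_of_isKFlat D (isKFlat_resX _)
  let W' := (resX X).obj W
  haveI := hasRSheafHom_of_isKFlat W' (isKFlat_resX W)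
  let eW : DerivedCategory.Q.obj W' ≅ DerivedCategory.Q.obj W := (resIso X).app W
  let T' := (DCoh.tensorCx.obj D).obj W'
  have hT' : DCoh.IsKFlat T' := isKFlat_tensorCx (isKFlat_resX _) (isKFlat_resX W)
  haveI := hasRSheafHom_of_isKFlat T' hT'
  obtain ⟨s⟩ := RelPCLib.nonempty_lTensor_symm W D
  obtain ⟨tT⟩ := nonempty_lTensor_of_iso (E := T) (E' := T')
    (DerivedCategory.Q.mapIso (symS D W') ≪≫ ((lTensorQIso D (isKFlat_resX _)).app W').symm ≪≫
      (DCoh.LTensorCx D).mapIso eW ≪≫ s.symm ≪≫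
      (DCoh.LTensorCx W).mapIso (eD ≪≫ (rK.app O).symm) ≪≫ eT.symm)
  let rT : DCoh.RSheafHom T ≅ DCoh.RSheafHom T' :=
    ((DCoh.RSheafHomAdj T).ofNatIsoLeft tT.symm).rightAdjointUniq (DCoh.RSheafHomAdj T')
  obtain ⟨c⟩ := nonempty_rSheafHomCompIso D W' (isKFlat_resX W)
  have hW' : Dual3.IsInvertibleD (DCoh.toD X W') := fun x => by
    obtain ⟨U, n, hx, ⟨e⟩⟩ := hW x
    exact ⟨U, n, hx, ⟨(DCoh.restrictD U.ι).mapIso eW ≪≫ e⟩⟩
  obtain ⟨self⟩ := nonempty_rSheafHom_self W' hW'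
  obtain ⟨d⟩ := nonempty_rSheafHom_dual K' (isKFlat_resX K) (isPerfect_iso eK.symm hK) D eD
  obtain ⟨u⟩ := nonempty_lTensor_inD_structure K'
  exact ⟨rT.app _ ≪≫ c.app _ ≪≫ (DCoh.RSheafHom D).mapIso
    ((DCoh.RSheafHom W').mapIso eW.symm ≪≫ self) ≪≫ d.app O ≪≫ u ≪≫ eK⟩

variable {Z Y : Scheme.{u}} (p : Z ⟶ X) (q : Z ⟶ Y) [CompactSpace Z] [QuasiSeparatedSpace Z] [CompactSpace X]
  [QuasiSeparatedSpace X] [CompactSpace Y] [QuasiSeparatedSpace Y]
  [DCoh.HasLpull p] [DCoh.HasRpush p] [DCoh.HasLpull q] [DCoh.HasRpush q]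

/-- The left adjoint of a kernel functor with perfect kernel, twisted by an invertible relative dualizing object. -/
theorem nonempty_phi_leftAdjoint (hp : DCoh.RpushPreservesQCoh p) (hq : DCoh.RpushPreservesQCoh q)
    (a : DCoh.DQCoh X ⥤ DCoh.DQCoh Z) (adj : DCoh.RpushQ p hp ⊣ a)
    (K W T : CochainComplex Z.Modules ℤ) [DCoh.HasLTensorCx K] [DCoh.HasRSheafHom K] [DCoh.HasLTensorCx W]
    [DCoh.HasLTensorCx T] [DCoh.HasRSheafHom T]
    (hK : DCoh.IsPerfect (DerivedCategory.Q.obj K)) (hW : Dual3.IsInvertibleD (DCoh.toD Z W))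
    (ea : a ⋙ ObjectProperty.ι _ ≅ ObjectProperty.ι _ ⋙ DCoh.Lpull p ⋙ DCoh.LTensorCx W)
    (eT : DerivedCategory.Q.obj T ≅
      (DCoh.LTensorCx W).obj ((DCoh.RSheafHom K).obj (DCoh.inD Z (Coh.structureModule Z))))
    (F : DCoh.DQCoh X ⥤ DCoh.DQCoh Y) (L : DCoh.DQCoh Y ⥤ DCoh.DQCoh X)
    (eF : F ⋙ ObjectProperty.ι _ ≅ ObjectProperty.ι _ ⋙ DCoh.Lpull p ⋙ DCoh.LTensorCx K ⋙ DCoh.Rpush q)
    (eL : L ⋙ ObjectProperty.ι _ ≅ ObjectProperty.ι _ ⋙ DCoh.Lpull q ⋙ DCoh.LTensorCx T ⋙ DCoh.Rpush p) :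
    Nonempty (L ⊣ F) := by
  have hWp := isPerfect_of_isInvertibleD hW
  have hT : DCoh.IsPerfect (DerivedCategory.Q.obj T) :=
    isPerfect_iso eT.symm (FMPerfLib.isPerfect_lTensorCx W hWp _ (isPerfect_dual K hK))
  obtain ⟨r⟩ := nonempty_rSheafHom_twist_dual K W T hK hW eT
  exact TwistShriek.nonempty_phi_adjunction q p hq hp a adj T hT W (DCohMore.isQCohD_of_isPerfect hWp) ea K r.symm
    L F eL eF

end Groth.Agent.ShriekBridge
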