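import Groth.Agent.ShriekBridge.Invert
import Groth.Agent.DRingLib.BaseChangeAdj
import Groth.Agent.DRingLib.PerfMisc
import Groth.Agent.TildePerf.Amp
import Groth.Agent.DCohLib.PCTop
import Groth.Agent.DCohMore.ThickGen

/-!
# The upper shriek of a local complete intersection preserves perfect objects
-/

set_option autoImplicit false
set_option linter.style.haveILetI false
set_option linter.unusedSectionVars false
set_option backward.isDefEq.respectTransparency false
set_option maxHeartbeats 1000000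

universe u

open CategoryTheory CategoryTheory.Limits AlgebraicGeometry Pretriangulated
open Groth.Agent.DCohLib Groth.Agent.DCohMore Groth.Agent.DimFormulaLib Groth.Agent.DualCxLib

attribute [local instance] HasDerivedCategory.standard

noncomputable section

namespace Groth.Agent.ShriekBridge

variable {X Y : Scheme.{u}} {f : X ⟶ Y}
  [∀ (U V : Scheme.{u}) (j : U ⟶ V) [IsOpenImmersion j], PreservesFiniteLimits (Scheme.Modules.restrictFunctor j)]

/-- Invertible objects are perfect. -/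
theorem isPerfect_of_isInvertibleD {K : DCoh.D X} (h : Dual3.IsInvertibleD K) : DCoh.IsPerfect K := by
  refine isPerfect_of_local fun x => ?_
  obtain ⟨U, n, hx, ⟨e⟩⟩ := h x
  exact ⟨(U : Scheme.{u}), U.ι, inferInstance, ⟨x, hx⟩, rfl,
    isPerfect_iso e.symm (isPerfect_shift (isPerfect_inD (BCLib.isFinLocFree_structureModule _)) n)⟩

variable [∀ (R : CommRingCat.{u}), PreservesFiniteLimits (tilde.functor R)]
  [IsNoetherian Y] {cp : DEt.Compactification f} [DCoh.HasRpush cp.fbar] {hc : DCoh.RpushPreservesQCoh cp.fbar}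
  {a : DCoh.DQCoh Y ⥤ DCoh.DQCoh cp.Xbar}

/-- If the upper shriek of the structure sheaf is perfect, it preserves perfect objects. -/
theorem isPerfect_shriekC [LocallyOfFiniteType f] (adj : DCoh.RpushQ cp.fbar hc ⊣ a)
    (O : DCoh.DQCoh Y) (hO : Nonempty (O.obj ≅ DCoh.inD Y (Coh.structureModule Y)))
    (hperf : DCoh.IsPerfect ((Dual3.shriekC cp a).obj O)) (K : DCoh.DQCoh Y) (hKb : Dual3.IsBddBelowQ Y K)
    (hK : DCoh.IsPerfect K.obj) : DCoh.IsPerfect ((Dual3.shriekC cp a).obj K) := by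
  refine isPerfect_of_local fun x => ?_
  obtain ⟨c⟩ := DimFormulaLib.exists_chart f x
  refine ⟨_, c.j, inferInstance, c.q, c.hq, ?_⟩
  obtain ⟨P⟩ := nonempty_pres c.A c.B
  obtain ⟨ω, ⟨eω⟩⟩ := ((TildeD.main (CommRingCat.of c.A)).2.2 ((DCoh.restrictD c.i).obj K.obj)).1
    (TildeD.isQCohD_of_iso ((lpullRestrictNatIso c.i).app K.obj) (TwistShriek.lpullQCoh c.i K.obj K.property))
  obtain ⟨e⟩ := nonempty_restrict_shriekC cp adj c.i c.j c.w P.ψ P.hψ P.Rψ P.adj K hKb ω eω.symm
  obtain ⟨eO⟩ := nonempty_restrict_chart adj O hO c P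
  let tB := DCoh.tildeD (CommRingCat.of c.B)
  let L := DRing.LBaseChange (algebraMap c.A (MvPolynomial (Fin P.n) c.A))
  let F : Dual.D c.A ⥤ DCoh.D (Spec (CommRingCat.of c.B)) := L ⋙ P.Rψ ⋙ tB
  letI := (DRingLib.lbcAdj (algebraMap c.A (MvPolynomial (Fin P.n) c.A))).leftAdjointCommShift ℤ
  haveI := (DRingLib.lbcAdj (algebraMap c.A (MvPolynomial (Fin P.n) c.A))).commShift_of_rightAdjoint ℤ
  haveI := (DRingLib.lbcAdj (algebraMap c.A (MvPolynomial (Fin P.n) c.A))).isTriangulated_leftAdjoint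
  letI := P.adj.rightAdjointCommShift ℤ
  haveI := P.adj.commShift_of_leftAdjoint ℤ
  haveI := P.adj.isTriangulated_rightAdjoint
  let sh : ∀ Z : Dual.D c.A, tB.obj (Dual2.shriekVia P.n P.Rψ Z) ≅ (F.obj Z)⟦(P.n : ℤ)⟧ :=
    fun Z => (tB.commShiftIso (P.n : ℤ)).app _
  have hF : DCoh.IsPerfect (F.obj ω) := by
    refine DRingLib.class_of_perf (A := c.A) (P := fun Z => DCoh.IsPerfect (F.obj Z))
      (fun i h => isPerfect_iso (F.mapIso i) h)
      (fun T hT h₁ h₃ => isPerfect_obj₂ (F.mapTriangle.obj T) (F.map_distinguished T hT) h₁ h₃)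
      (fun Z Z' _ h => isPerfect_of_retract ((({ i := biprod.inl, r := biprod.fst, retract := biprod.inl_fst } :
        Retract Z (Z ⊞ Z'))).map F) h)
      ?_ (fun Z k h => isPerfect_iso ((F.commShiftIso k).app Z).symm (isPerfect_shift h k)) ?_
    · exact isPerfect_iso ((shiftFunctorCompIsoId _ (P.n : ℤ) (-(P.n : ℤ)) (by omega)).app _)
        (isPerfect_shift (isPerfect_iso (eO ≪≫ sh _) (isPerfect_restrict c.j hperf)) (-(P.n : ℤ)))
    · exact (TildePerf.perfect_tilde_iff ω).1 (isPerfect_iso eω.symm (isPerfect_restrict c.i hK))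
  exact isPerfect_iso e.symm (isPerfect_iso (sh ω).symm (isPerfect_shift hF (P.n : ℤ)))

end Groth.Agent.ShriekBridge
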