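import Groth.Agent.ShriekBridge.Charts
import Groth.Agent.DCohMore.RelAmp
import Groth.Agent.DCohMore.RelPerfAffine

/-!
# Relative amplitude read on charts
-/

set_option autoImplicit false
set_option linter.style.haveILetI false
set_option backward.isDefEq.respectTransparency false

universe u

open CategoryTheory CategoryTheory.Limits AlgebraicGeometry
open Groth.Agent.DCohLib Groth.Agent.DCohMore Groth.Agent.DRingLib Groth.Agent.DerSchH7

attribute [local instance] HasDerivedCategory.standard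

noncomputable section

namespace Groth.Agent.ShriekBridge

variable {X S : Scheme.{u}} (f : X ⟶ S)

/-- Tor amplitude in a chart gives relative tor amplitude on it. -/
theorem hasTorAmplitudeAt_of_chart {E : DCoh.D X} (F : CochainComplex X.Modules ℤ) (eF : DCoh.toD X F ≅ E)
    {R A : CommRingCat.{u}} (ψ : R ⟶ A) [PreservesFiniteLimits (tilde.functor A)]
    (g : Spec A ⟶ X) [IsOpenImmersion g] (k : Spec R ⟶ S)
    [IsOpenImmersion k] (hgk : Spec.map ψ ≫ k = g ≫ f) (M : Dual.D A)
    (e : (DCoh.restrictD g).obj E ≅ (DCoh.tildeD A).obj M) (a b : ℤ)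
    (hab : DRing.HasTorAmplitudeIn R a b ((DRing.restrictD ψ.hom).obj M)) :
    ∀ x' : X, x' ∈ g.opensRange → DerSch.HasTorAmplitudeAt f a b F x' := by
  rintro _ ⟨y, rfl⟩
  let K := DerivedCategory.Q.objPreimage M
  let eK : DRing.toD K ≅ M := DerivedCategory.Q.objObjPreimageIso M
  let eT : DCoh.toD (Spec A) (TildePerf.tilC (A := A) K) ≅ DCoh.toD (Spec A) ((resCx g).obj F) :=
    (TildePerf.tildeDQ K).symm ≪≫ (DCoh.tildeD A).mapIso eK ≪≫ e.symm ≪≫
      (DCoh.restrictD g).mapIso eF.symm ≪≫ restrictDQ g F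
  refine (hasTorAmplitudeAt_restrict_iff g f y F a b).1 ?_
  rw [← hgk]
  exact (hasTorAmplitudeAt_comp_iff (Spec.map ψ) k _ a b y).2 (hasTorAmplitudeAt_congr _ eT
    ((hasTorAmplitude_tilde_iff ψ.hom K a b).2 (amp_of_iso ((DRing.restrictD ψ.hom).mapIso eK.symm) hab) y))

/-- Relative flat amplitude is tested on charts. -/
theorem hasRelFlatAmplitudeIn_of_charts [Flat f] (E : DCoh.D X) (a b : ℤ)
    (h : ∀ x : X, ∃ c : DimFormulaLib.Chart f x,
      ∀ [PreservesFiniteLimits (tilde.functor (CommRingCat.of c.B))], ∃ M : Dual.D c.B,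
        Nonempty ((DCoh.restrictD c.j).obj E ≅ (DCoh.tildeD (CommRingCat.of c.B)).obj M) ∧
        DRing.HasTorAmplitudeIn c.A a b ((DRing.restrictD (algebraMap c.A c.B)).obj M)) :
    DCoh.HasRelFlatAmplitudeIn f a b E := by
  let F := DerivedCategory.Q.objPreimage E
  let eF : DCoh.toD X F ≅ E := DerivedCategory.Q.objObjPreimageIso E
  have hT : DerSch.HasTorAmplitude f a b F := fun x => by
    obtain ⟨c, hc⟩ := h x
    haveI : PreservesFiniteLimits (tilde.functor (CommRingCat.of c.B)) := TildeD.preservesFiniteLimits_tilde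
    obtain ⟨M, ⟨e⟩, hM⟩ := hc
    exact hasTorAmplitudeAt_of_chart f F eF (CommRingCat.ofHom (algebraMap c.A c.B)) c.j c.i c.w.symm M e a b hM x
      ⟨c.q, c.hq⟩
  obtain ⟨G, hG, hfl, ⟨e⟩⟩ := relFlatAmplitude_of_hasTorAmplitude f hT
  exact ⟨G, hG, hfl, ⟨e ≪≫ eF⟩⟩

end Groth.Agent.ShriekBridge
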