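import Groth.Agent.ShriekBridge.Charts
import Groth.Agent.DCohMore.FibreChart
import Groth.Agent.S1801

/-!
# The upper shriek of a flat morphism on fibres
-/

set_option autoImplicit false
set_option linter.style.haveILetI false
set_option linter.unusedSectionVars false
set_option backward.isDefEq.respectTransparency false
set_option maxHeartbeats 2000000

universe u

open CategoryTheory CategoryTheory.Limits AlgebraicGeometry
open Groth.Agent.DCohLib Groth.Agent.DCohMore Groth.Agent.TwistShriek Groth.Agent.DimFormulaLib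
open scoped TensorProduct

attribute [local instance] HasDerivedCategory.standard Algebra.TensorProduct.rightAlgebra

noncomputable section

namespace Groth.Agent.ShriekBridge

variable {X Y : Scheme.{u}} {f : X ⟶ Y} [IsNoetherian Y] [Flat f] [LocallyOfFiniteType f]
  {cp : DEt.Compactification f} [DCoh.HasRpush cp.fbar] {hc : DCoh.RpushPreservesQCoh cp.fbar}
  {a : DCoh.DQCoh Y ⥤ DCoh.DQCoh cp.Xbar}
  [∀ (U V : Scheme.{u}) (j : U ⟶ V) [IsOpenImmersion j], PreservesFiniteLimits (Scheme.Modules.restrictFunctor j)]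
  [∀ (R : CommRingCat.{u}), PreservesFiniteLimits (tilde.functor R)]

/-- A chart of the fibre with a dualizing model. -/
theorem exists_chart_dualizing (adj : DCoh.RpushQ cp.fbar hc ⊣ a) (O : DCoh.DQCoh Y)
    (hO : Nonempty (O.obj ≅ DCoh.inD Y (Coh.structureModule Y))) {x : X} (c : Chart f x)
    (p : Spec (CommRingCat.of c.A)) (hpq : Spec.map (CommRingCat.ofHom (algebraMap c.A c.B)) c.q = p) (y : Y)
    (hp : c.i p = y) [DCoh.HasLpull (f.fiberι y)] (z : f.fiber y) (hz : f.fiberι y z = x) :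
    ∃ (A : CommRingCat.{u}) (j : Spec A ⟶ f.fiber y) (_ : IsOpenImmersion j),
      z ∈ Set.range j ∧ ∃ ω : Dual.D A, Dual.IsDualizing A ω ∧
        Nonempty ((DCoh.restrictD j).obj ((DCoh.Lpull (f.fiberι y)).obj ((Dual3.shriekC cp a).obj O)) ≅
          (DCoh.tildeD A).obj ω) := by
  subst hp
  haveI : IsLocallyNoetherian X := LocallyOfFiniteType.isLocallyNoetherian f
  haveI : LocallyOfFiniteType (f.fiberToSpecResidueField (c.i p)) :=
    MorphismProperty.pullback_snd (P := @LocallyOfFiniteType) _ _ ‹LocallyOfFiniteType f›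
  haveI : IsLocallyNoetherian (f.fiber (c.i p)) :=
    LocallyOfFiniteType.isLocallyNoetherian (f.fiberToSpecResidueField (c.i p))
  obtain ⟨u, hu, hug⟩ := exists_fibre_chart f c.j c.i c.w.symm p
  haveI := flat_of_chart c
  haveI := isNoetherianRing_base c
  haveI := isNoetherianRing_total c
  obtain ⟨P⟩ := nonempty_pres c.A c.B
  obtain ⟨e⟩ := nonempty_restrict_chart adj O hO c P
  let κ := p.asIdeal.ResidueField
  let χ : c.B →+* κ ⊗[c.A] c.B := algebraMap c.B (κ ⊗[c.A] c.B)
  haveI := DRingLib.hasLBaseChange χ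
  haveI : DRing.HasLBaseChange (Algebra.TensorProduct.includeRight : c.B →ₐ[c.A] κ ⊗[c.A] c.B).toRingHom :=
    DRingLib.hasLBaseChange _
  have hω := (S1801.result c.A c.B P.n P.ψ P.hψ P.Rψ P.adj).2.2.2.2 κ
  obtain ⟨d⟩ := nonempty_restrictD_lpull_tilde (f := f.fiberι (c.i p)) χ u c.j hug ((Dual3.shriekC cp a).obj O)
    P.omega e
  refine ⟨CommRingCat.of (κ ⊗[c.A] c.B), u, hu, ?_, _, hω, ⟨d⟩⟩
  obtain ⟨q, hq⟩ : ∃ q, Spec.map (CommRingCat.ofHom χ) q = c.q := by
    obtain ⟨s, hs⟩ : ∃ s, Spec.map (CommRingCat.ofHom (algebraMap c.A κ)) s = p := by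
      refine ⟨(⟨⊥, Ideal.isPrime_bot⟩ : PrimeSpectrum κ), PrimeSpectrum.ext ?_⟩
      show Ideal.comap (algebraMap c.A κ) ⊥ = p.asIdeal
      exact (RingHom.ker_eq_comap_bot _).symm.trans (Ideal.ker_algebraMap_residueField _)
    obtain ⟨w, -, hw⟩ := Scheme.Pullback.exists_preimage_pullback
      (f := Spec.map (CommRingCat.ofHom (algebraMap c.A κ))) (g := Spec.map (CommRingCat.ofHom (algebraMap c.A c.B)))
      s c.q (hs.trans hpq.symm)
    refine ⟨(pullbackSpecIso c.A κ c.B).hom w, ?_⟩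
    rw [← hw, ← Scheme.Hom.comp_apply]
    exact congrArg (fun t : _ ⟶ Spec (CommRingCat.of c.B) => t w) (pullbackSpecIso_hom_snd c.A κ c.B)
  refine ⟨q, (f.fiberι (c.i p)).isEmbedding.injective ?_⟩
  rw [← Scheme.Hom.comp_apply, hug, Scheme.Hom.comp_apply, hq, c.hq, hz]

/-- On every fibre the upper shriek of the structure sheaf is dualizing. -/
theorem isDualizingSch_fibre (adj : DCoh.RpushQ cp.fbar hc ⊣ a) (O : DCoh.DQCoh Y)
    (hO : Nonempty (O.obj ≅ DCoh.inD Y (Coh.structureModule Y))) (y : Y) [DCoh.HasLpull (f.fiberι y)] :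
    Dual2.IsDualizingSch (f.fiber y) ((DCoh.Lpull (f.fiberι y)).obj ((Dual3.shriekC cp a).obj O)) := by
  haveI : LocallyOfFiniteType (f.fiberToSpecResidueField y) :=
    MorphismProperty.pullback_snd (P := @LocallyOfFiniteType) _ _ ‹LocallyOfFiniteType f›
  haveI : IsLocallyNoetherian (f.fiber y) := LocallyOfFiniteType.isLocallyNoetherian (f.fiberToSpecResidueField y)
  have key : ∀ z : f.fiber y, ∃ (A : CommRingCat.{u}) (j : Spec A ⟶ f.fiber y) (_ : IsOpenImmersion j),
      z ∈ Set.range j ∧ ∃ ω : Dual.D A, Dual.IsDualizing A ω ∧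
        Nonempty ((DCoh.restrictD j).obj ((DCoh.Lpull (f.fiberι y)).obj ((Dual3.shriekC cp a).obj O)) ≅
          (DCoh.tildeD A).obj ω) := by
    intro z
    obtain ⟨c⟩ := DimFormulaLib.exists_chart f (f.fiberι y z)
    let p : Spec (CommRingCat.of c.A) := Spec.map (CommRingCat.ofHom (algebraMap c.A c.B)) c.q
    have hp : c.i p = y := by
      show c.i (Spec.map (CommRingCat.ofHom (algebraMap c.A c.B)) c.q) = y
      rw [← Scheme.Hom.comp_apply, ← c.w, Scheme.Hom.comp_apply, c.hq]
      have h1 := f.range_fiberι y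
      exact Set.mem_singleton_iff.1 (h1 ▸ Set.mem_range_self z : f.fiberι y z ∈ f ⁻¹' {y})
    exact exists_chart_dualizing adj O hO c p rfl y hp z rfl
  choose A j hj hmem ω hω he using key
  haveI := hj
  exact isDualizingSch_of_cover _ (fun z => (A z : Type u)) j (fun z => ⟨z, hmem z⟩) fun z => ⟨ω z, hω z, he z⟩

end Groth.Agent.ShriekBridge
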