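import Groth.Agent.ShriekBridge.FMLeft
import Groth.Agent.DCohMore.FinHom
import Groth.Agent.PuncSecLib.TildeSys
import Groth.Agent.FMKLib.NatPF
import Groth.Agent.DCohLib.ExtTensorD

/-!
# When the structure sheaf is the derived endomorphisms of a complex
-/

set_option autoImplicit false
set_option linter.style.haveILetI false
set_option linter.unusedSectionVars false
set_option backward.isDefEq.respectTransparency false
set_option maxHeartbeats 1000000

universe u

open CategoryTheory CategoryTheory.Limits AlgebraicGeometry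
open Groth.Agent.DCohLib Groth.Agent.DCohMore Groth.Agent.TwistShriek

attribute [local instance] HasDerivedCategory.standard

noncomputable section

namespace Groth.Agent.ShriekBridge

section Abstract

variable {C D : Type*} [Category C] [Category D]

theorem bijective_map_of_iso (F : C ⥤ D) {A A' B B' : C} (a : A ≅ A') (b : B ≅ B')
    (h : Function.Bijective (fun g : A' ⟶ B' => F.map g)) : Function.Bijective (fun g : A ⟶ B => F.map g) := by
  have : (fun g : A ⟶ B => F.map g) =
      (fun k => (F.mapIso a).hom ≫ k ≫ (F.mapIso b).inv) ∘ (fun g : A' ⟶ B' => F.map g) ∘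
        (fun g : A ⟶ B => a.inv ≫ g ≫ b.hom) := by
    funext g
    show F.map g = F.map a.hom ≫ F.map (a.inv ≫ g ≫ b.hom) ≫ F.map b.inv
    rw [← F.map_comp, ← F.map_comp]
    simp
  rw [this]
  exact (((F.mapIso a).homCongr (F.mapIso b)).symm.bijective).comp (h.comp (a.homCongr b).bijective)

theorem bijective_map_of_conj (R : C ⥤ D) [R.Full] [R.Faithful] (F : C ⥤ C) (G : D ⥤ D) (d : F ⋙ R ≅ R ⋙ G)
    (A B : C) (h : Function.Bijective (fun g : R.obj A ⟶ R.obj B => G.map g)) :
    Function.Bijective (fun g : A ⟶ B => F.map g) := by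
  have hR : ∀ P Q : C, Function.Bijective (fun g : P ⟶ Q => R.map g) :=
    fun P Q => ⟨R.map_injective, R.map_surjective⟩
  refine (Function.Bijective.of_comp_iff' (hR _ _) _).1 ?_
  have : (fun g : F.obj A ⟶ F.obj B => R.map g) ∘ (fun g : A ⟶ B => F.map g) =
      (fun k => (d.app A).hom ≫ k ≫ (d.app B).inv) ∘ (fun g : R.obj A ⟶ R.obj B => G.map g) ∘
        (fun g : A ⟶ B => R.map g) := by
    funext g
    show R.map (F.map g) = d.hom.app A ≫ G.map (R.map g) ≫ d.inv.app B
    have n := d.hom.naturality g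
    dsimp at n
    rw [← reassoc_of% n, Iso.hom_inv_id_app]
    exact (Category.comp_id _).symm
  rw [this]
  exact (((d.app A).homCongr (d.app B)).symm.bijective).comp (h.comp (hR _ _))

/-- Composition with the restriction of an adjoint map is detected by the local functor. -/
theorem bijective_comp_adjunct {L : C ⥤ D} {R : D ⥤ C} (adjL : L ⊣ R) {F G : D ⥤ D} (adjF : F ⊣ G)
    (F' : C ⥤ C) (e : F' ⋙ L ≅ L ⋙ F) (c : R ⋙ F' ≅ F ⋙ R) (iL : L ⋙ R ≅ 𝟭 C) (O E : D) (υ : F.obj O ≅ E)
    (T : C) (h : Function.Bijective (fun g : T ⟶ R.obj O => F'.map g)) :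
    Function.Bijective (fun g : T ⟶ R.obj O => g ≫ R.map (adjF.homEquiv O E υ.hom)) := by
  haveI : IsIso adjL.unit := adjL.isIso_unit_of_iso iL
  haveI : IsIso (R.map (adjL.counit.app O)) := by
    have t := adjL.right_triangle_components O
    haveI : IsIso (adjL.unit.app (R.obj O) ≫ R.map (adjL.counit.app O)) := by rw [t]; exact IsIso.id _
    exact IsIso.of_isIso_comp_left (adjL.unit.app (R.obj O)) _
  haveI : IsIso (R.map (F.map (adjL.counit.app O))) :=
    (NatIso.isIso_map_iff c (adjL.counit.app O)).1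
      (inferInstanceAs (IsIso (F'.map (R.map (adjL.counit.app O)))))
  let θ : F'.obj (R.obj O) ⟶ R.obj E :=
    adjL.homEquiv _ _ (e.hom.app (R.obj O) ≫ F.map (adjL.counit.app O) ≫ υ.hom)
  haveI : IsIso θ := by
    show IsIso (adjL.homEquiv _ _ _)
    rw [adjL.homEquiv_unit, R.map_comp, R.map_comp]
    infer_instance
  let χ : (T ⟶ R.obj (G.obj E)) ≃ (F'.obj T ⟶ R.obj E) :=
    ((adjL.homEquiv T (G.obj E)).symm.trans ((adjF.homEquiv (L.obj T) E).symm.trans
      (e.app T).symm.homFromEquiv)).trans (adjL.homEquiv (F'.obj T) E)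
  refine (Function.Bijective.of_comp_iff' χ.bijective _).1 ?_
  have : χ ∘ (fun g : T ⟶ R.obj O => g ≫ R.map (adjF.homEquiv O E υ.hom)) =
      (fun k : F'.obj T ⟶ F'.obj (R.obj O) => k ≫ θ) ∘ (fun g : T ⟶ R.obj O => F'.map g) := by
    funext g
    have n := e.hom.naturality g
    dsimp at n
    show adjL.homEquiv _ _ (e.hom.app T ≫ (adjF.homEquiv _ _).symm
      ((adjL.homEquiv _ _).symm (g ≫ R.map (adjF.homEquiv O E υ.hom)))) = F'.map g ≫ θ
    rw [adjL.homEquiv_naturality_right_symm, adjF.homEquiv_naturality_left_symm, Equiv.symm_apply_apply,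
      adjL.homEquiv_counit, F.map_comp, Category.assoc, ← reassoc_of% n, adjL.homEquiv_naturality_left]
  rw [this]
  exact (asIso θ).homToEquiv.bijective.comp h

end Abstract

variable {X : Scheme.{u}}
  [∀ (U V : Scheme.{u}) (j : U ⟶ V) [IsOpenImmersion j], PreservesFiniteLimits (Scheme.Modules.restrictFunctor j)]

section Affine

variable (R : CommRingCat.{u}) [PreservesFiniteLimits (tilde.functor R)]

/-- The derived tilde of the ring. -/
def tildeUnit : (DCoh.tildeD R).obj (Dual.inD R R) ≅ DCoh.inD (Spec R) (Coh.structureModule (Spec R)) :=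
  ((tilde.functor R).mapDerivedCategorySingleFunctor 0).app _ ≪≫
    (DerivedCategory.singleFunctor (Spec R).Modules 0).mapIso tildeSelf

/-- Isomorphisms of quasi-coherent objects are detected by shifts of the structure sheaf. -/
theorem isIso_of_bijective_unit {K L : DCoh.D (Spec R)} (hK : DCoh.IsQCohD K) (hL : DCoh.IsQCohD L) (ψ : K ⟶ L)
    (h : ∀ q : ℤ, Function.Bijective
      fun g : (DCoh.inD (Spec R) (Coh.structureModule (Spec R)))⟦q⟧ ⟶ K => g ≫ ψ) : IsIso ψ := by
  obtain ⟨hF, hFf, hmem⟩ := TildeD.main R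
  haveI := hF
  haveI := hFf
  obtain ⟨M, ⟨eM⟩⟩ := (hmem K).1 hK
  obtain ⟨N, ⟨eN⟩⟩ := (hmem L).1 hL
  obtain ⟨g, hg⟩ := (DCoh.tildeD R).map_surjective (eM.hom ≫ ψ ≫ eN.inv)
  haveI : IsIso g := TildeD.isIso_of_bijective_sgl R g fun q => by
    let S := (DerivedCategory.singleFunctor (ModuleCat.{u} R) q).obj (ModuleCat.of R R)
    let c : (DCoh.tildeD R).obj S ≅ (DCoh.inD (Spec R) (Coh.structureModule (Spec R)))⟦-q⟧ :=
      (DCoh.tildeD R).mapIso (((DerivedCategory.singleFunctors (ModuleCat.{u} R)).shiftIso (-q) q 0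
        (by omega)).app _).symm ≪≫ ((DCoh.tildeD R).commShiftIso (-q)).app _ ≪≫
        (shiftFunctor (DCoh.D (Spec R)) (-q)).mapIso (tildeUnit R)
    let aM : (S ⟶ M) ≃ ((DCoh.inD (Spec R) (Coh.structureModule (Spec R)))⟦-q⟧ ⟶ K) :=
      (Functor.FullyFaithful.ofFullyFaithful (DCoh.tildeD R)).homEquiv.trans (c.homCongr eM)
    let aN : (S ⟶ N) ≃ ((DCoh.inD (Spec R) (Coh.structureModule (Spec R)))⟦-q⟧ ⟶ L) :=
      (Functor.FullyFaithful.ofFullyFaithful (DCoh.tildeD R)).homEquiv.trans (c.homCongr eN)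
    have : aN ∘ (fun x : S ⟶ M => x ≫ g) = (fun x => x ≫ ψ) ∘ aM := funext fun x => by
      show c.inv ≫ (DCoh.tildeD R).map (x ≫ g) ≫ eN.hom = (c.inv ≫ (DCoh.tildeD R).map x ≫ eM.hom) ≫ ψ
      rw [Functor.map_comp, hg]
      simp
    exact (Function.Bijective.of_comp_iff' aN.bijective _).1 (this ▸ (h (-q)).comp aM.bijective)
  have : ψ = eM.inv ≫ (DCoh.tildeD R).map g ≫ eN.hom := by rw [hg]; simp
  rw [this]
  infer_instance

end Affine

section Linear

variable (B : Type u) [CommRing B] [PreservesFiniteLimits (tilde.functor (CommRingCat.of B))]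

local notation "S" => Spec (CommRingCat.of B)
local notation "OB" => DCoh.inD S (Coh.structureModule S)

/-- The spectrum over itself. -/
abbrev overSelf : (Spec (CommRingCat.of B)).Over (Spec (CommRingCat.of B)) := ⟨𝟙 _⟩

theorem linear_tilde : letI := overSelf B; (tilde.functor (CommRingCat.of B)).Linear B := by
  letI := overSelf B
  refine FinHom.linear_of_objects _ fun M a => ⟨M, Iso.refl _, ?_⟩
  rw [KLin.smul_id]
  exact PuncSecLib.tilde_map_lsmul M a

theorem bijective_smul_inD : Function.Bijective fun a : B => a • 𝟙 (Dual.inD B B) := by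
  let F := DerivedCategory.singleFunctor (ModuleCat.{u} B) 0
  have : (fun a : B => a • 𝟙 (Dual.inD B B)) =
      (fun f : ModuleCat.of B B ⟶ ModuleCat.of B B => F.map f) ∘ (fun a : B => a • 𝟙 (ModuleCat.of B B)) := by
    funext a
    show a • 𝟙 (F.obj _) = F.map (a • 𝟙 _)
    rw [Functor.map_smul, CategoryTheory.Functor.map_id]
  rw [this]
  refine (show Function.Bijective fun f : ModuleCat.of B B ⟶ ModuleCat.of B B => F.map f from
    ⟨F.map_injective, F.map_surjective⟩).comp ⟨fun a b hab => ?_, fun f => ⟨f (1 : B), ?_⟩⟩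
  · simpa using congrArg (fun f : ModuleCat.of B B ⟶ ModuleCat.of B B => f (1 : B)) hab
  · refine ModuleCat.hom_ext (LinearMap.ext_ring ?_)
    simp

/-- Tensoring with a complex with only scalar endomorphisms is fully faithful on shifts of the ring. -/
theorem bijective_lTensor_map (N : CochainComplex (Spec (CommRingCat.of B)).Modules ℤ) (hN : DCoh.IsKFlat N)
    (M : Dual.D B) (eM : DerivedCategory.Q.obj N ≅ (DCoh.tildeD (CommRingCat.of B)).obj M)
    (h1 : Function.Bijective fun b : B => b • 𝟙 M) (h2 : ∀ i : ℤ, i ≠ 0 → Subsingleton (M ⟶ M⟦i⟧)) (q : ℤ) :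
    Function.Bijective (fun g : OB⟦q⟧ ⟶ OB => (DCoh.LTensorCx N).map g) := by
  letI := overSelf B
  haveI := linear_tilde B
  haveI : PreservesFiniteColimits (tilde.functor (CommRingCat.of B)) :=
    haveI : PreservesColimitsOfSize.{u, u} (tilde.functor (CommRingCat.of B)) :=
      tilde.adjunction.leftAdjoint_preservesColimits
    haveI : PreservesColimitsOfSize.{0, 0} (tilde.functor (CommRingCat.of B)) := preservesColimitsOfSize_shrink _
    PreservesColimitsOfSize.preservesFiniteColimits _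
  haveI : (DCoh.tildeD (CommRingCat.of B)).Linear B :=
    inferInstanceAs ((tilde.functor (CommRingCat.of B)).mapDerivedCategory.Linear B)
  haveI : (DCoh.tildeD (CommRingCat.of B)).Full := (TildeD.main (CommRingCat.of B)).1
  haveI : (DCoh.tildeD (CommRingCat.of B)).Faithful := (TildeD.main (CommRingCat.of B)).2.1
  haveI := hasRSheafHom_of_isKFlat N hN
  haveI : (DCoh.LTensorCx N).IsLeftAdjoint := (DCoh.RSheafHomAdj N).isLeftAdjoint
  haveI : PreservesColimitsOfSize.{0, 0} (DCoh.LTensorCx N) :=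
    (DCoh.RSheafHomAdj N).leftAdjoint_preservesColimits
  haveI : PreservesBinaryBiproducts (DCoh.LTensorCx N) :=
    preservesBinaryBiproducts_of_preservesBinaryCoproducts _
  haveI : (DCoh.LTensorCx N).Additive := Functor.additive_of_preservesBinaryBiproducts _
  haveI := FinHom.lTensorCx_linear (A := B) N hN
  let T := DCoh.tildeD (CommRingCat.of B)
  obtain ⟨t⟩ := nonempty_lTensor_inD_structure N
  let tO : (DCoh.LTensorCx N).obj OB ≅ T.obj M := t ≪≫ eM
  by_cases hq : q = 0
  · subst hq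
    refine bijective_map_of_iso _ ((shiftFunctorZero (DCoh.D S) ℤ).app OB) (Iso.refl _) ?_
    have hO : Function.Bijective fun b : B => b • 𝟙 OB := by
      have : (fun b : B => b • 𝟙 OB) = ((tildeUnit (CommRingCat.of B)).homCongr (tildeUnit (CommRingCat.of B))) ∘
          (fun f : Dual.inD B B ⟶ Dual.inD B B => T.map f) ∘ (fun b : B => b • 𝟙 (Dual.inD B B)) := by
        funext b
        show b • 𝟙 OB = (tildeUnit (CommRingCat.of B)).inv ≫ T.map (b • 𝟙 _) ≫ (tildeUnit (CommRingCat.of B)).hom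
        rw [Functor.map_smul, CategoryTheory.Functor.map_id, Linear.smul_comp, Category.id_comp, Linear.comp_smul,
          Iso.inv_hom_id]
      rw [this]
      exact (Equiv.bijective _).comp
        ((show Function.Bijective fun f : Dual.inD B B ⟶ Dual.inD B B => T.map f from
          ⟨T.map_injective, T.map_surjective⟩).comp (bijective_smul_inD B))
    refine (Function.Bijective.of_comp_iff _ hO).1 ?_
    have : (fun g : OB ⟶ OB => (DCoh.LTensorCx N).map g) ∘ (fun b : B => b • 𝟙 OB) =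
        (tO.homCongr tO).symm ∘ (fun f : M ⟶ M => T.map f) ∘ (fun b : B => b • 𝟙 M) := by
      funext b
      show (DCoh.LTensorCx N).map (b • 𝟙 OB) = tO.hom ≫ T.map (b • 𝟙 M) ≫ tO.inv
      rw [Functor.map_smul, Functor.map_smul, CategoryTheory.Functor.map_id, CategoryTheory.Functor.map_id,
        Linear.smul_comp, Category.id_comp, Linear.comp_smul, Iso.hom_inv_id]
    refine (congrArg Function.Bijective this).mpr ?_
    exact (Equiv.bijective _).comp
      ((show Function.Bijective fun f : M ⟶ M => T.map f from ⟨T.map_injective, T.map_surjective⟩).comp h1)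
  · haveI : Subsingleton (OB⟦q⟧ ⟶ OB) := by
      obtain ⟨s⟩ := nonempty_shift_inD (X := S) q
      exact (s.homCongr inDIso).subsingleton_congr.2
        (subsingleton_of_forall_eq 0 fun φ => eq_zero_uD (by omega) φ)
    haveI := h2 (-q) (by omega)
    haveI : Subsingleton (M⟦q⟧ ⟶ M) := by
      refine ((Functor.FullyFaithful.ofFullyFaithful (shiftFunctor (Dual.D B) (-q))).homEquiv.trans
        (((shiftFunctorCompIsoId (Dual.D B) q (-q) (by omega)).app M).homCongr (Iso.refl _))).subsingleton_congr.2 ?_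
      assumption
    haveI : Subsingleton ((DCoh.LTensorCx N).obj (OB⟦q⟧) ⟶ (DCoh.LTensorCx N).obj OB) := by
      let c : (DCoh.LTensorCx N).obj (OB⟦q⟧) ≅ T.obj (M⟦q⟧) :=
        FMPerfLib.lTensorShift N hN OB q ≪≫ (shiftFunctor (DCoh.D S) q).mapIso tO ≪≫
          ((T.commShiftIso q).app M).symm
      exact ((c.homCongr tO).trans (Functor.FullyFaithful.ofFullyFaithful T).homEquiv.symm).subsingleton_congr.2
        inferInstance
    exact ⟨fun g g' _ => Subsingleton.elim _ _, fun k => ⟨0, Subsingleton.elim _ _⟩⟩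

end Linear

/-- If locally a complex has only scalar endomorphisms, the structure sheaf is its derived endomorphisms. -/
theorem isIso_unit_rSheafHom (E : CochainComplex X.Modules ℤ) [DCoh.HasLTensorCx E] [DCoh.HasRSheafHom E]
    (υ : (DCoh.LTensorCx E).obj (DCoh.inD X (Coh.structureModule X)) ≅ DCoh.toD X E)
    (hH : DCoh.IsQCohD ((DCoh.RSheafHom E).obj (DCoh.toD X E)))
    (h : ∀ x : X, ∃ (B : Type u) (_ : CommRing B) (_ : PreservesFiniteLimits (tilde.functor (CommRingCat.of B)))
      (j : Spec (CommRingCat.of B) ⟶ X) (_ : IsOpenImmersion j) (M : Dual.D B),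
      x ∈ j.opensRange ∧ Nonempty ((DCoh.restrictD j).obj (DCoh.toD X E) ≅
        (DCoh.tildeD (CommRingCat.of B)).obj M) ∧
      Function.Bijective (fun b : B => b • 𝟙 M) ∧ ∀ i : ℤ, i ≠ 0 → Subsingleton (M ⟶ M⟦i⟧)) :
    IsIso (((DCoh.RSheafHomAdj E).homEquiv (DCoh.inD X (Coh.structureModule X)) (DCoh.toD X E)) υ.hom) := by
  let OX := DCoh.inD X (Coh.structureModule X)
  let φ := ((DCoh.RSheafHomAdj E).homEquiv OX (DCoh.toD X E)) υ.hom
  refine isIso_of_restrictD φ fun x => ?_
  obtain ⟨B, _, _, j, _, M, hx, ⟨eM⟩, h1, h2⟩ := h x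
  let V := j.opensRange
  refine ⟨V, hx, ?_⟩
  let s : Spec (CommRingCat.of B) ⟶ (V : Scheme.{u}) := j.isoOpensRange.hom
  let RS := DCoh.restrictD s
  haveI : RS.Full := inferInstanceAs (restrictDEquiv j.isoOpensRange).functor.Full
  haveI : RS.Faithful := inferInstanceAs (restrictDEquiv j.isoOpensRange).functor.Faithful
  haveI : RS.ReflectsIsomorphisms := reflectsIsomorphisms_of_full_and_faithful _
  have hqO : DCoh.IsQCohD OX :=
    TildeD.isQCohD_of_iso inDIso.symm (isQCohD_uD 0)
  suffices IsIso (RS.map ((DCoh.restrictD V.ι).map φ)) from isIso_of_reflects_iso _ RS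
  let OB := DCoh.inD (Spec (CommRingCat.of B)) (Coh.structureModule (Spec (CommRingCat.of B)))
  obtain ⟨rV⟩ := nonempty_restrictD_inD_unit (A := CommRingCat.of B) j
  let eRO : RS.obj ((DCoh.restrictD V.ι).obj OX) ≅ OB :=
    ((restrictDComp s V.ι).app OX).symm ≪≫ (restrictDCongr j.isoOpensRange_hom_ι).app OX ≪≫ rV ≪≫
      tildeUnit (CommRingCat.of B)
  let OV := (DCoh.restrictD V.ι).obj OX
  refine isIso_of_bijective_unit (CommRingCat.of B)
    (TildeD.isQCohD_restrict s _ (TildeD.isQCohD_restrict V.ι _ hqO))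
    (TildeD.isQCohD_restrict s _ (TildeD.isQCohD_restrict V.ι _ hH)) _ fun q => ?_
  let T := OV⟦q⟧
  let eT : RS.obj T ≅ OB⟦q⟧ := (RS.commShiftIso q).app OV ≪≫ (shiftFunctor _ q).mapIso eRO
  let W := (resCx V.ι).obj E
  haveI : DCoh.HasLTensorCx W := DCohLib.hasLTensorCx _
  -- bijectivity on the open
  have key : Function.Bijective fun g : T ⟶ OV => g ≫ (DCoh.restrictD V.ι).map φ := by
    obtain ⟨adjL⟩ := nonempty_extZeroD_adj V
    obtain ⟨e⟩ := nonempty_extZeroD_lTensor V E
    let E' := (resX X).obj E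
    have hE' : DCoh.IsKFlat E' := isKFlat_resX E
    haveI : DCoh.HasLTensorCx ((resCx V.ι).obj E') := DCohLib.hasLTensorCx _
    obtain ⟨t⟩ := nonempty_lTensor_of_qis ((resXπ X).app E) (quasiIso_resXπ E)
    haveI := isIso_Q_resXπ E
    obtain ⟨t'⟩ := nonempty_lTensor_of_iso (E := W) (E' := (resCx V.ι).obj E')
      ((restrictDQ V.ι E').symm ≪≫ (DCoh.restrictD V.ι).mapIso (asIso (DerivedCategory.Q.map ((resXπ X).app E))) ≪≫
        restrictDQ V.ι E)
    let c : DCoh.restrictD V.ι ⋙ DCoh.LTensorCx W ≅ DCoh.LTensorCx E ⋙ DCoh.restrictD V.ι :=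
      Functor.isoWhiskerLeft _ t'.symm ≪≫ restrictLTensorIso V E' hE' ≪≫ Functor.isoWhiskerRight t _
    refine bijective_comp_adjunct adjL (DCoh.RSheafHomAdj E) (DCoh.LTensorCx W) e c (extRestrictDIso V) OX
      (DCoh.toD X E) υ T ?_
    let N := (resX (Spec (CommRingCat.of B))).obj (DerivedCategory.Q.objPreimage
      ((DCoh.tildeD (CommRingCat.of B)).obj M))
    have hN : DCoh.IsKFlat N := isKFlat_resX _
    let eN : DerivedCategory.Q.obj N ≅ (DCoh.tildeD (CommRingCat.of B)).obj M := resXIso _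
    haveI : DCoh.HasLTensorCx N := DCohLib.hasLTensorCx _
    haveI := DCohLib.hasLpull s
    obtain ⟨d⟩ := FMKLib.nonempty_lpull_lTensor_natIso s W N
      (eN ≪≫ eM.symm ≪≫ ((restrictDCongr j.isoOpensRange_hom_ι).app _).symm ≪≫ (restrictDComp s V.ι).app _ ≪≫
        RS.mapIso (restrictDQ V.ι E) ≪≫ ((lpullRestrictNatIso s).app _).symm)
    let d' : DCoh.LTensorCx W ⋙ RS ≅ RS ⋙ DCoh.LTensorCx N :=
      Functor.isoWhiskerLeft _ (lpullRestrictNatIso s).symm ≪≫ d ≪≫
        Functor.isoWhiskerRight (lpullRestrictNatIso s) _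
    refine bijective_map_of_conj RS (DCoh.LTensorCx W) (DCoh.LTensorCx N) d' T OV ?_
    exact bijective_map_of_iso _ eT eRO (bijective_lTensor_map B N hN M eN h1 h2 q)
  -- transport to the chart
  let aK : (T ⟶ OV) ≃ (OB⟦q⟧ ⟶ RS.obj OV) :=
    (Functor.FullyFaithful.ofFullyFaithful RS).homEquiv.trans (eT.homCongr (Iso.refl _))
  let aL : (T ⟶ (DCoh.restrictD V.ι).obj ((DCoh.RSheafHom E).obj (DCoh.toD X E))) ≃
      (OB⟦q⟧ ⟶ RS.obj ((DCoh.restrictD V.ι).obj ((DCoh.RSheafHom E).obj (DCoh.toD X E)))) :=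
    (Functor.FullyFaithful.ofFullyFaithful RS).homEquiv.trans (eT.homCongr (Iso.refl _))
  refine (Function.Bijective.of_comp_iff _ aK.bijective).1 ?_
  have : (fun g : OB⟦q⟧ ⟶ RS.obj OV => g ≫ RS.map ((DCoh.restrictD V.ι).map φ)) ∘ aK =
      aL ∘ fun g : T ⟶ OV => g ≫ (DCoh.restrictD V.ι).map φ := by
    funext g
    show (eT.inv ≫ RS.map g ≫ 𝟙 _) ≫ RS.map _ = eT.inv ≫ RS.map (g ≫ _) ≫ 𝟙 _
    simp [RS.map_comp]
  rw [this]
  exact aL.bijective.comp key

end Groth.Agent.ShriekBridge
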