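import Groth.Agent.ShriekBridge.PerfectAlg
import Groth.Agent.ShriekBridge.RHomSelf
import Groth.Agent.ShriekBridge.Charts
import Groth.Agent.ShriekBridge.Amp
import Groth.Agent.TildeFinLib.Basic
import Groth.Agent.DCohMore.RHomCoh
import Groth.Agent.TwistShriek.DualizingCover

/-!
# The upper shriek along a morphism of finite tor dimension
-/

set_option autoImplicit false
set_option linter.style.haveILetI false
set_option linter.unusedSectionVars false
set_option backward.isDefEq.respectTransparency false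
set_option maxHeartbeats 1000000

universe u

open CategoryTheory CategoryTheory.Limits AlgebraicGeometry
open Groth.Agent.DCohLib Groth.Agent.DCohMore Groth.Agent.TwistShriek Groth.Agent.DimFormulaLib

attribute [local instance] HasDerivedCategory.standard

noncomputable section

namespace Groth.Agent.ShriekBridge

variable {X Y : Scheme.{u}} {f : X ⟶ Y}
  [∀ (U V : Scheme.{u}) (j : U ⟶ V) [IsOpenImmersion j], PreservesFiniteLimits (Scheme.Modules.restrictFunctor j)]
  [∀ (R : CommRingCat.{u}), PreservesFiniteLimits (tilde.functor R)]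

/-- Charts whose ring maps have finite tor dimension. -/
def HasTDCharts (f : X ⟶ Y) : Prop :=
  ∀ x : X, ∃ c : Chart f x, DRing.HasFiniteTorDim c.A c.B

theorem hasTDCharts_of_isPerfectMor [LocallyOfFiniteType f] (hf : MoreMor.IsPerfectMor f) : HasTDCharts f := by
  intro x
  obtain ⟨_, ⟨V : Y.Opens, hV, rfl⟩, hxV, -⟩ :=
    Y.isBasis_affineOpens.exists_subset_of_mem_open (a := f x) (Set.mem_univ _) isOpen_univ
  obtain ⟨_, ⟨U : X.Opens, hU, rfl⟩, hxU, hUV⟩ :=
    X.isBasis_affineOpens.exists_subset_of_mem_open (a := x) (u := (f ⁻¹ᵁ V : X.Opens)) hxV (f ⁻¹ᵁ V).isOpen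
  have h : U ≤ f ⁻¹ᵁ V := hUV
  letI := (f.appLE V U h).hom.toAlgebra
  haveI : Algebra.FiniteType Γ(Y, V) Γ(X, U) := f.finiteType_appLE hV hU h
  let c : Chart f x :=
    { A := Γ(Y, V), B := Γ(X, U), i := hV.fromSpec, j := hU.fromSpec,
      w := (IsAffineOpen.SpecMap_appLE_fromSpec f hV hU h).symm,
      q := hU.primeIdealOf ⟨x, hxU⟩, hq := hU.fromSpec_primeIdealOf ⟨x, hxU⟩ }
  exact ⟨c, (hf U V hU hV h).2⟩

theorem hasTDCharts_of_flat [LocallyOfFiniteType f] [Flat f] : HasTDCharts f := by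
  intro x
  obtain ⟨c⟩ := DimFormulaLib.exists_chart f x
  haveI := flat_of_chart c
  exact ⟨c, PerfMorLib.hasFiniteTorDim_iff.mpr
    (PerfMorLib.td_of_flat (RingHom.flat_algebraMap_iff.mpr inferInstance))⟩

variable [IsNoetherian Y] {cp : DEt.Compactification f} [DCoh.HasRpush cp.fbar]
  {hc : DCoh.RpushPreservesQCoh cp.fbar} {a : DCoh.DQCoh Y ⥤ DCoh.DQCoh cp.Xbar}

/-- Boundedness and coherence of the upper shriek. -/
theorem shriekC_bounded_coherent [IsNoetherian X] (adj : DCoh.RpushQ cp.fbar hc ⊣ a) (hf : HasTDCharts f)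
    (K : DCoh.DQCoh Y) (lo hi : ℤ) (hb : ∀ i : ℤ, (i < lo ∨ hi < i) → IsZero (DCoh.HD K.obj i))
    (hK : ∀ i : ℤ, Coh.IsCoh (DCoh.HD K.obj i)) :
    (∃ lo' hi' : ℤ, ∀ i : ℤ, (i < lo' ∨ hi' < i) → IsZero (DCoh.HD ((Dual3.shriekC cp a).obj K) i)) ∧
      ∀ i : ℤ, Coh.IsCoh (DCoh.HD ((Dual3.shriekC cp a).obj K) i) := by
  classical
  have hKb : Dual3.IsBddBelowQ Y K :=
    ⟨lo, (DerivedCategory.isGE_iff _ _).2 fun i hi' => hb i (Or.inl hi')⟩
  have h : ∀ x : X, ∃ (B : Type u) (_ : CommRing B) (_ : IsNoetherianRing B) (j : Spec (CommRingCat.of B) ⟶ X)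
      (_ : IsOpenImmersion j) (M : Dual.D B) (l u : ℤ), x ∈ j.opensRange ∧
      Nonempty ((DCoh.restrictD j).obj ((Dual3.shriekC cp a).obj K) ≅ (DCoh.tildeD (CommRingCat.of B)).obj M) ∧
      (∀ i : ℤ, (i < l ∨ u < i) → Subsingleton (Dual.HD B M i)) ∧ ∀ i : ℤ, Module.Finite B (Dual.HD B M i) := by
    intro x
    obtain ⟨c, htd⟩ := hf x
    haveI := isNoetherianRing_base c
    haveI := isNoetherianRing_total c
    obtain ⟨P⟩ := nonempty_pres c.A c.B
    obtain ⟨ω, ⟨eω⟩⟩ := ((TildeD.main (CommRingCat.of c.A)).2.2 ((DCoh.restrictD c.i).obj K.obj)).1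
      (TildeD.isQCohD_restrict c.i _ K.property)
    have hω : ∀ i : ℤ, (i < lo ∨ hi < i) → Subsingleton (Dual.HD c.A ω i) := fun i hi' => by
      have hz : IsZero ((tilde.functor (CommRingCat.of c.A)).obj
          ((DerivedCategory.homologyFunctor (ModuleCat.{u} c.A) i).obj ω)) :=
        ((Scheme.Modules.restrictFunctor c.i).map_isZero (hb i hi')).of_iso (homologyModelIso c.i eω.symm i)
      haveI : (tilde.functor (CommRingCat.of c.A)).Faithful := tilde.fullyFaithfulFunctor.faithful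
      refine ModuleCat.subsingleton_of_isZero ((IsZero.iff_id_eq_zero _).2
        ((tilde.functor (CommRingCat.of c.A)).map_injective ?_))
      exact hz.eq_of_src _ _
    have hωf : ∀ i : ℤ, Module.Finite c.A (Dual.HD c.A ω i) := fun i =>
      (TildeFinLib.isFT_tilde_iff (R := CommRingCat.of c.A) _).1
        (TildePerf.isFT_of_iso (homologyModelIso c.i eω.symm i).symm
          (DCohMore.isFT_restrictFunctor c.i (hK i).2))
    obtain ⟨⟨l, hl⟩, hfin⟩ := ShriekAlgLib.shriekVia_bounded_coherent c.A c.B P.n P.ψ P.hψ P.Rψ P.adj ω lo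
      fun i hi' => hω i (Or.inl hi')
    haveI : ω.IsLE hi := (DerivedCategory.isLE_iff _ _).2 fun i hi' =>
      ModuleCat.isZero_iff_subsingleton.2 (hω i (Or.inr hi'))
    obtain ⟨u, hu⟩ := exists_upper_bound_shriekVia c.A c.B htd P.n P.ψ P.hψ P.Rψ P.adj ω hi
    obtain ⟨e⟩ := nonempty_restrict_shriekC cp adj c.i c.j c.w P.ψ P.hψ P.Rψ P.adj K hKb ω eω.symm
    exact ⟨c.B, inferInstance, inferInstance, c.j, inferInstance, _, l, u, ⟨c.q, c.hq⟩, ⟨e⟩,
      fun i hi' => hi'.elim (hl i) (hu i), hfin hωf⟩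
  choose B _ _ j _ M l u hx he hbd hfin using h
  obtain ⟨t, ht⟩ := CompactSpace.isCompact_univ.elim_finite_subcover
    (fun x : X => ((j x).opensRange : Set X)) (fun x => (j x).opensRange.2)
    (fun x _ => Set.mem_iUnion.2 ⟨x, hx x⟩)
  constructor
  · obtain ⟨lo', hlo⟩ := (t.image l).bddBelow
    obtain ⟨hi', hhi⟩ := (t.image u).bddAbove
    refine ⟨lo', hi', fun i hi₀ => isZero_of_local fun y => ?_⟩
    obtain ⟨x, hxt, hy⟩ := Set.mem_iUnion₂.1 (ht (Set.mem_univ y))
    obtain ⟨z, hz⟩ := hy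
    refine ⟨_, j x, inferInstance, z, hz, IsZero.of_iso ?_ (homologyModelIso (j x) (he x).some i).symm⟩
    refine (tilde.functor _).map_isZero (ModuleCat.isZero_iff_subsingleton.2 (hbd x i ?_))
    have h1 := hlo (Finset.mem_image_of_mem l hxt)
    have h2 := hhi (Finset.mem_image_of_mem u hxt)
    rcases hi₀ with h | h
    · exact Or.inl (by omega)
    · exact Or.inr (by omega)
  · exact fun i => isCoh_of_local fun x =>
      ⟨(j x).opensRange, hx x, isCoh_restrict_opensRange_of_finite (j x) (he x).some i (hfin x i)⟩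

/-- The structure sheaf is the derived endomorphisms of the relative dualizing complex. -/
theorem isIso_unit_shriek [IsNoetherian X] (adj : DCoh.RpushQ cp.fbar hc ⊣ a) (hf : HasTDCharts f)
    (O : DCoh.DQCoh Y) (hO : Nonempty (O.obj ≅ DCoh.inD Y (Coh.structureModule Y)))
    (E : CochainComplex X.Modules ℤ) (hE : Nonempty (DCoh.toD X E ≅ (Dual3.shriekC cp a).obj O))
    [DCoh.HasLTensorCx E] [DCoh.HasRSheafHom E]
    (υ : (DCoh.LTensorCx E).obj (DCoh.inD X (Coh.structureModule X)) ≅ DCoh.toD X E) :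
    IsIso (((DCoh.RSheafHomAdj E).homEquiv (DCoh.inD X (Coh.structureModule X)) (DCoh.toD X E)) υ.hom) := by
  obtain ⟨eE⟩ := hE
  obtain ⟨eO⟩ := hO
  haveI : O.obj.IsGE 0 := DerivedCategory.TStructure.t.isGE_of_iso eO.symm 0
  haveI : O.obj.IsLE 0 := DerivedCategory.TStructure.t.isLE_of_iso eO.symm 0
  have hOc : ∀ i : ℤ, Coh.IsCoh (DCoh.HD O.obj i) :=
    (isCohD_bounded_of_isPerfect O.obj
      (isPerfect_iso eO.symm (isPerfect_inD (BCLib.isFinLocFree_structureModule Y)))).1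
  obtain ⟨⟨lo, hi, hb⟩, hcoh⟩ := shriekC_bounded_coherent adj hf O 0 0
    (fun i hi => hi.elim (fun h => DerivedCategory.isZero_of_isGE O.obj 0 i h)
      fun h => DerivedCategory.isZero_of_isLE O.obj 0 i h) hOc
  have hEc : DCoh.IsCohD (DCoh.toD X E) := isCohD_of_iso' eE.symm hcoh
  haveI : (DCoh.toD X E).IsGE lo := (DerivedCategory.isGE_iff _ _).2 fun i hi' =>
    (hb i (Or.inl hi')).of_iso ((DerivedCategory.homologyFunctor X.Modules i).mapIso eE)
  haveI : (DCoh.toD X E).IsLE hi := (DerivedCategory.isLE_iff _ _).2 fun i hi' =>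
    (hb i (Or.inr hi')).of_iso ((DerivedCategory.homologyFunctor X.Modules i).mapIso eE)
  refine isIso_unit_rSheafHom E υ (fun i => ((isCohD_rSheafHom E hi hEc _ lo hEc).1 i).1) fun x => ?_
  obtain ⟨c, htd⟩ := hf x
  haveI := isNoetherianRing_base c
  obtain ⟨P⟩ := nonempty_pres c.A c.B
  obtain ⟨e⟩ := nonempty_restrict_chart adj O ⟨eO⟩ c P
  obtain ⟨h1, h2⟩ := end_shriekVia_self_of_perfect c.A c.B htd P.n P.ψ P.hψ P.Rψ P.adj
  exact ⟨c.B, inferInstance, inferInstance, c.j, inferInstance, P.omega, ⟨c.q, c.hq⟩,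
    ⟨(DCoh.restrictD c.j).mapIso eE ≪≫ e⟩, h1, h2⟩

/-- The upper shriek of the structure sheaf has locally finite relative tor dimension for flat maps. -/
theorem locHasFiniteRelTorDim_shriek [IsNoetherian X] [LocallyOfFiniteType f] [Flat f]
    (adj : DCoh.RpushQ cp.fbar hc ⊣ a)
    (O : DCoh.DQCoh Y) (hO : Nonempty (O.obj ≅ DCoh.inD Y (Coh.structureModule Y))) :
    DCoh.LocHasFiniteRelTorDim f ((Dual3.shriekC cp a).obj O) := by
  intro x
  obtain ⟨c⟩ := DimFormulaLib.exists_chart f x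
  haveI := flat_of_chart c
  haveI := isNoetherianRing_base c
  haveI := isNoetherianRing_total c
  obtain ⟨P⟩ := nonempty_pres c.A c.B
  obtain ⟨e⟩ := nonempty_restrict_chart adj O hO c P
  obtain ⟨m, n, hamp⟩ := (ShriekAlgLib.isRelPerfect_shriekVia_self c.A c.B P.n P.ψ P.hψ P.Rψ P.adj).2
  let V := c.j.opensRange
  refine ⟨V, m, n, ⟨c.q, c.hq⟩, fun F' hF' => ?_⟩
  obtain ⟨eF⟩ := hF'
  refine hasRelFlatAmplitudeIn_of_charts (V.ι ≫ f) _ m n fun y => ?_
  obtain ⟨z, hz⟩ : ∃ z, c.j.isoOpensRange.hom z = y :=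
    ⟨c.j.isoOpensRange.inv y, by rw [← Scheme.Hom.comp_apply, Iso.inv_hom_id]; rfl⟩
  let c' : Chart (V.ι ≫ f) y :=
    { A := c.A, B := c.B, i := c.i, j := c.j.isoOpensRange.hom
      w := by rw [← Category.assoc, c.j.isoOpensRange_hom_ι]; exact c.w
      q := z, hq := hz }
  refine ⟨c', ?_⟩
  intro _
  exact ⟨P.omega, ⟨(DCoh.restrictD c.j.isoOpensRange.hom).mapIso ((restrictDQ V.ι F').symm ≪≫
    (DCoh.restrictD V.ι).mapIso eF) ≪≫ ((restrictDComp c.j.isoOpensRange.hom V.ι).app _).symm ≪≫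
    (restrictDCongr c.j.isoOpensRange_hom_ι).app _ ≪≫ e⟩, hamp⟩

end Groth.Agent.ShriekBridge
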