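import Groth.Agent.S3634
import Groth.Agent.TwistShriek.DerivedPlus
import Groth.Agent.FundLocIsoLib.Main

/-!
# The right adjoint along a regular closed immersion and the fundamental local isomorphism
-/

set_option autoImplicit false
set_option linter.style.haveILetI false
set_option linter.unusedSectionVars false
set_option backward.isDefEq.respectTransparency false
set_option maxHeartbeats 1000000

universe u

open CategoryTheory CategoryTheory.Limits AlgebraicGeometry
open Groth.Agent.DCohLib Groth.Agent.ProjSerreLib Groth.Agent.StalkHomLib Groth.Agent.FundLocIsoLib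

attribute [local instance] HasDerivedCategory.standard

noncomputable section

namespace Groth.Agent.ShriekBridge

section Extend

variable {A B : Type*} [Category A] [Category B] [Abelian A] [Abelian B] (F : A ⥤ B) [F.Additive]
  (K : CochainComplex A ℕ)

/-- Additive functors commute with the extension by zero of cochain complexes. -/
def mapExtendNatIso : (F.mapHomologicalComplex _).obj (K.extend ComplexShape.embeddingUpNat) ≅
    ((F.mapHomologicalComplex _).obj K).extend ComplexShape.embeddingUpNat :=
  HomologicalComplex.Hom.isoOfComponents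
    (fun n =>
      if h : 0 ≤ n then
        F.mapIso (K.extendXIso ComplexShape.embeddingUpNat (i := n.toNat) (Int.toNat_of_nonneg h)) ≪≫
          (((F.mapHomologicalComplex _).obj K).extendXIso ComplexShape.embeddingUpNat (i := n.toNat)
            (Int.toNat_of_nonneg h)).symm
      else
        (F.map_isZero (K.isZero_extend_X ComplexShape.embeddingUpNat n fun k hk => h (hk ▸ Int.natCast_nonneg k))).iso
          (HomologicalComplex.isZero_extend_X _ ComplexShape.embeddingUpNat n fun k hk => h (hk ▸ Int.natCast_nonneg k)))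
    (by
      intro i j hij
      by_cases hi : 0 ≤ i
      · have hj : 0 ≤ j := by
          have : i + 1 = j := hij
          omega
        rw [dif_pos hi, dif_pos hj]
        obtain ⟨k, rfl⟩ := Int.eq_ofNat_of_zero_le hi
        obtain ⟨l, rfl⟩ := Int.eq_ofNat_of_zero_le hj
        simp only [Functor.mapHomologicalComplex_obj_d]
        rw [K.extend_d_eq ComplexShape.embeddingUpNat (i := (k : ℤ).toNat) (j := (l : ℤ).toNat)
            (Int.toNat_of_nonneg hi) (Int.toNat_of_nonneg hj),
          ((F.mapHomologicalComplex _).obj K).extend_d_eq ComplexShape.embeddingUpNat (i := (k : ℤ).toNat)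
            (j := (l : ℤ).toNat) (Int.toNat_of_nonneg hi) (Int.toNat_of_nonneg hj)]
        simp
      · exact (F.map_isZero (K.isZero_extend_X ComplexShape.embeddingUpNat i
          fun k hk => hi (hk ▸ Int.natCast_nonneg k))).eq_of_src _ _)

end Extend

variable {Z X : Scheme.{u}} (i : Z ⟶ X) [IsClosedImmersion i]

/-- The cohomology of the right adjoint of the direct image along a closed immersion on a module. -/
theorem nonempty_HD_rightAdjoint_closed [IsNoetherian X] [DCoh.HasRpush i] (hf : DCoh.RpushPreservesQCoh i)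
    (a : DCoh.DQCoh X ⥤ DCoh.DQCoh Z) (adj : DCoh.RpushQ i hf ⊣ a) {M : X.Modules} (R : InjectiveResolution M)
    (A : DCoh.DQCoh X) (eA : A.obj ≅ DCoh.inD X M) (d : ℕ) :
    Nonempty (DCoh.HD (a.obj A).obj (d : ℤ) ≅ (shCx i R).homology d) := by
  haveI : Dual3.HasHomO i := (shAdj i).isLeftAdjoint
  haveI : EnoughInjectives X.Modules := inferInstance
  haveI : (shriek i).Additive := (shAdj i).right_adjoint_additive
  haveI : PreservesFiniteLimits (Scheme.Modules.pushforward i) := DCohLib.preservesFiniteLimits_pushforward i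
  haveI : PreservesFiniteColimits (Scheme.Modules.pushforward i) := DCohLib.preservesFiniteColimits_pushforward i
  obtain ⟨eR⟩ := Groth.Agent.S3634.result Z X i hf a adj
  have hb : Dual3.IsBddBelowQ X A := ⟨0, DerivedCategory.TStructure.t.isGE_of_iso eA.symm 0⟩
  let G := Dual3.homO i
  let G' := G.mapHomotopyCategory (ComplexShape.up ℤ) ⋙ (DerivedCategory.Qh (C := Z.Modules))
  haveI := KInj.hasRightDerivedFunctor (hres_modules X) G'
  let W₂ := HomotopyCategory.quasiIso X.Modules (ComplexShape.up ℤ)
  let RG := G'.totalRightDerived (DerivedCategory.Qh (C := X.Modules)) W₂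
  let α := G'.totalRightDerivedUnit (DerivedCategory.Qh (C := X.Modules)) W₂
  obtain ⟨eP⟩ := TwistShriek.nonempty_rightDerivedFunctorPlus_iso (hres_modules X) G RG α
  let I := R.cochainComplex
  haveI : I.IsKInjective := CochainComplex.isKInjective_of_injective I 0
  haveI := KInj.isIso_app_of_isKInjective (hres_modules X) _ RG α I
  haveI : IsIso (DerivedCategory.Q.map R.ι') :=
    (DerivedCategory.isIso_Q_map_iff_quasiIso (C := X.Modules) _).2 inferInstance
  let eI : A.obj ≅ DerivedCategory.Qh.obj ((HomotopyCategory.quotient X.Modules (ComplexShape.up ℤ)).obj I) :=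
    eA ≪≫ (DerivedCategory.singleFunctorIsoCompQ X.Modules 0).app M ≪≫ asIso (DerivedCategory.Q.map R.ι') ≪≫
      ((DerivedCategory.quotientCompQhIso X.Modules).app I).symm
  let C := ((G.mapHomologicalComplex (ComplexShape.up ℤ)).obj I)
  let e₁ : (a.obj A).obj ≅ DerivedCategory.Q.obj C :=
    eR.app ⟨A, hb⟩ ≪≫ eP.app ((Dual3.bddToPlus X).obj ⟨A, hb⟩) ≪≫ RG.mapIso eI ≪≫
      (asIso (α.app ((HomotopyCategory.quotient X.Modules (ComplexShape.up ℤ)).obj I))).symm ≪≫
      DerivedCategory.Qh.mapIso ((G.mapHomotopyCategoryFactors (ComplexShape.up ℤ)).app I) ≪≫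
      (DerivedCategory.quotientCompQhIso Z.Modules).app C
  exact ⟨(DerivedCategory.homologyFunctor Z.Modules (d : ℤ)).mapIso e₁ ≪≫
    (DerivedCategory.homologyFunctorFactors Z.Modules (d : ℤ)).app C ≪≫
    (HomologicalComplex.homologyFunctor _ _ (d : ℤ)).mapIso (mapExtendNatIso G R.cocomplex) ≪≫
    ((G.mapHomologicalComplex _).obj R.cocomplex).extendHomologyIso ComplexShape.embeddingUpNat (j := d) rfl⟩

/-- A module whose right adjoint along a regular closed immersion is concentrated in the codimension. -/
theorem nonempty_pullback_iso_of_rightAdjoint [IsNoetherian X] [IsNoetherian Z] [DCoh.HasRpush i]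
    (hf : DCoh.RpushPreservesQCoh i) (a : DCoh.DQCoh X ⥤ DCoh.DQCoh Z) (adj : DCoh.RpushQ i hf ⊣ a)
    {r : ℕ} (hι : RegImm.IsRegularImmersionOfCodim RegImm.Kind.regular r i) {L : Z.Modules}
    (hL : ExtPow.IsExtPow r (Omega.conormal i) L) {M : X.Modules} (A : DCoh.DQCoh X) (eA : A.obj ≅ DCoh.inD X M)
    {E : Z.Modules} (eE : DCoh.HD (a.obj A).obj (r : ℤ) ≅ E) :
    Nonempty ((Scheme.Modules.pullback i).obj M ≅ tmod E L) := by
  haveI : ModSite.HasSheafHom (O := X.sheaf) (pushO i) := ModTensor.hasSheafHom (O := X.sheaf) _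
  haveI : HasInjectiveResolutions X.Modules := inferInstance
  haveI : HasInjectiveResolutions (ModSite.Mod X.sheaf) := ‹HasInjectiveResolutions X.Modules›
  obtain ⟨φ, hφ⟩ := hL
  let R := injectiveResolution M
  haveI : (hF (pushO i)).Additive := (ModSite.sheafHomAdj (O := X.sheaf) (pushO i)).right_adjoint_additive
  let e₁ : ((ModSite.extSh (O := X.sheaf) (pushO i) r).obj M : X.Modules) ≅ extT i R r :=
    R.isoRightDerivedObj (hF (pushO i)) r
  obtain ⟨e₂⟩ := nonempty_extSh_shCx i R r
  obtain ⟨h⟩ := nonempty_HD_rightAdjoint_closed i hf a adj R A eA r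
  exact FundLocIsoLib.nonempty_iso_tensor
    (e₁.symm ≪≫ e₂ ≪≫ (Scheme.Modules.pushforward i).mapIso (h.symm ≪≫ eE)) hι hφ

end Groth.Agent.ShriekBridge
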