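import Groth.Agent.TildeRpush.Main
import Groth.Agent.TildeD.Main
import Groth.Agent.DQCohBrown.Cat
import Groth.Agent.ShriekAlgLib.RightAdj

/-!
# The right adjoint of the direct image along a morphism of affine schemes is coextension
-/

set_option autoImplicit false
set_option linter.style.haveILetI false
set_option linter.unusedSectionVars false
set_option backward.isDefEq.respectTransparency false
set_option maxHeartbeats 1000000

universe u

open CategoryTheory CategoryTheory.Limits AlgebraicGeometry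
open Groth.Agent.DCohLib

attribute [local instance] HasDerivedCategory.standard

noncomputable section

namespace Groth.Agent.ShriekBridge

variable {A B : Type u} [CommRing A] [CommRing B] (ψ : A →+* B)
  [PreservesFiniteLimits (tilde.functor (CommRingCat.of A))]
  [PreservesFiniteLimits (tilde.functor (CommRingCat.of B))]

/-- The right adjoint of the direct image between affine schemes. -/
theorem nonempty_rightAdjoint_affine [DCoh.HasRpush (TildeRpush.fA ψ)]
    (h : DCoh.RpushPreservesQCoh (TildeRpush.fA ψ))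
    (a : DCoh.DQCoh (Spec (CommRingCat.of A)) ⥤ DCoh.DQCoh (Spec (CommRingCat.of B)))
    (adj : DCoh.RpushQ (TildeRpush.fA ψ) h ⊣ a) (Rψ : Dual.D A ⥤ Dual.D B) (adjR : DRing.restrictD ψ ⊣ Rψ)
    (K : DCoh.DQCoh (Spec (CommRingCat.of A))) (L : Dual.D A)
    (e : (DCoh.tildeD (CommRingCat.of A)).obj L ≅ K.obj) :
    Nonempty ((a.obj K).obj ≅ (DCoh.tildeD (CommRingCat.of B)).obj (Rψ.obj L)) := by
  haveI := (TildeD.main (CommRingCat.of A)).1
  haveI := (TildeD.main (CommRingCat.of A)).2.1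
  haveI := (TildeD.main (CommRingCat.of B)).1
  haveI := (TildeD.main (CommRingCat.of B)).2.1
  let TA : Dual.D A ⥤ DCoh.DQCoh (Spec (CommRingCat.of A)) :=
    ObjectProperty.lift _ (DCoh.tildeD (CommRingCat.of A)) fun M =>
      ((TildeD.main (CommRingCat.of A)).2.2 _).2 ⟨M, ⟨Iso.refl _⟩⟩
  let TB : Dual.D B ⥤ DCoh.DQCoh (Spec (CommRingCat.of B)) :=
    ObjectProperty.lift _ (DCoh.tildeD (CommRingCat.of B)) fun M =>
      ((TildeD.main (CommRingCat.of B)).2.2 _).2 ⟨M, ⟨Iso.refl _⟩⟩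
  haveI : TA.EssSurj := ⟨fun M => by
    obtain ⟨N, ⟨f⟩⟩ := ((TildeD.main (CommRingCat.of A)).2.2 _).1 M.property
    exact ⟨N, ⟨ObjectProperty.isoMk _ f⟩⟩⟩
  haveI : TB.EssSurj := ⟨fun M => by
    obtain ⟨N, ⟨f⟩⟩ := ((TildeD.main (CommRingCat.of B)).2.2 _).1 M.property
    exact ⟨N, ⟨ObjectProperty.isoMk _ f⟩⟩⟩
  haveI : TA.IsEquivalence := {}
  haveI : TB.IsEquivalence := {}
  let w : DRing.restrictD ψ ⋙ TA ≅ TB ⋙ DCoh.RpushQ (TildeRpush.fA ψ) h :=
    Functor.fullyFaithfulCancelRight (ObjectProperty.ι _)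
      (show DRing.restrictD ψ ⋙ DCoh.tildeD (CommRingCat.of A) ≅
          DCoh.tildeD (CommRingCat.of B) ⋙ DCoh.Rpush (TildeRpush.fA ψ) from (TildeRpush.tildeRpushIso ψ).symm)
  let adj₁ := TB.asEquivalence.toAdjunction.comp adj
  let adj₂ := adjR.comp TA.asEquivalence.toAdjunction
  let q := adj₁.rightAdjointUniq (adj₂.ofNatIsoLeft w)
  let K' : TA.obj L ≅ K := ObjectProperty.isoMk _ e
  exact ⟨(ObjectProperty.ι _).mapIso ((TB.asEquivalence.counitIso.app (a.obj K)).symm ≪≫
    TB.mapIso (q.app K ≪≫ Rψ.mapIso (TA.asEquivalence.inverse.mapIso K'.symm ≪≫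
      (TA.asEquivalence.unitIso.app L).symm)))⟩

end Groth.Agent.ShriekBridge
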