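import Groth.Agent.ShriekBridge.FMKernel
import Groth.Agent.TwistShriek.Main
import Groth.Agent.TwistShriek.FlatBCHyp
import Groth.Agent.DCohMore.BCAffine
import Groth.Agent.FMKLib.ConvBC

/-!
# Shifts of the structure sheaf, as objects of the derived category
-/

set_option autoImplicit false
set_option linter.style.haveILetI false
set_option linter.unusedSectionVars false
set_option backward.isDefEq.respectTransparency false
set_option maxHeartbeats 1000000

universe u

open CategoryTheory CategoryTheory.Limits AlgebraicGeometry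
open Groth.Agent.DCohLib Groth.Agent.DCohMore Groth.Agent.TwistShriek

attribute [local instance] HasDerivedCategory.standard

noncomputable section

namespace Groth.Agent.ShriekBridge

variable {X Y : Scheme.{u}}

/-- The structure sheaf in degree `m`. -/
abbrev uD (X : Scheme.{u}) (m : ℤ) : DCoh.D X := DerivedCategory.Q.obj (shiftUnitCx X m)

theorem isQCohD_uD (m : ℤ) : DCoh.IsQCohD (uD X m) :=
  DCohMore.isQCohD_of_isPerfect (isPerfect_shiftUnitCx m)

/-- Inverse images of shifts of the structure sheaf. -/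
theorem nonempty_lpull_uD (h : X ⟶ Y) [DCoh.HasLpull h] (m : ℤ) :
    Nonempty ((DCoh.Lpull h).obj (uD Y m) ≅ uD X m) :=
  ⟨lpullIsoK h (shiftUnitCx Y m) (isKFlat_of_strictlyPerfect (isStrictlyPerfect_shiftUnitCx m)) ≪≫
    DerivedCategory.Q.mapIso (pullShiftUnit h m)⟩

/-- Shifts. -/
theorem nonempty_shift_uD (n m m' : ℤ) (h : n + m' = m) : Nonempty ((uD X m)⟦n⟧ ≅ uD X m') :=
  ⟨(shiftFunctor (DCoh.D X) n).mapIso
      ((DerivedCategory.singleFunctorIsoCompQ X.Modules m).app (Coh.structureModule X)).symm ≪≫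
    ((DerivedCategory.singleFunctors X.Modules).shiftIso n m' m h).app (Coh.structureModule X) ≪≫
    (DerivedCategory.singleFunctorIsoCompQ X.Modules m').app (Coh.structureModule X)⟩

/-- The structure sheaf in degree zero. -/
def inDIso : DCoh.inD X (Coh.structureModule X) ≅ uD X 0 :=
  (DerivedCategory.singleFunctorIsoCompQ X.Modules 0).app (Coh.structureModule X)

theorem nonempty_shift_inD (n : ℤ) :
    Nonempty ((DCoh.inD X (Coh.structureModule X))⟦n⟧ ≅ uD X (-n)) := by
  obtain ⟨e⟩ := nonempty_shift_uD (X := X) n 0 (-n) (by omega)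
  exact ⟨(shiftFunctor (DCoh.D X) n).mapIso inDIso ≪≫ e⟩

/-- On an affine scheme there are no maps between shifts of the structure sheaf in different degrees. -/
theorem eq_zero_uD [IsAffine X] {m m' : ℤ} (h : m ≠ m') (φ : uD X m ⟶ uD X m') : φ = 0 := by
  have hb := bijective_hdMap (Iso.refl (Coh.structureModule X)) m (S := uD X m) (Iso.refl _) (uD X m') (isQCohD_uD m')
  have hz : IsZero ((DerivedCategory.homologyFunctor X.Modules m).obj (uD X m')) :=
    ((HomologicalComplex.exactAt_iff_isZero_homology _ _).1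
      (HomologicalComplex.ExactAt.of_isZero (HomologicalComplex.isZero_single_obj_X _ _ _ _ h))).of_iso
      ((DerivedCategory.homologyFunctorFactors X.Modules m).app _)
  exact hb.1 (hz.eq_of_tgt _ _)

/-- Endomorphisms of a shift of the structure sheaf commute. -/
theorem comm_uD {m : ℤ} (a b : uD X m ⟶ uD X m) : a ≫ b = b ≫ a := by
  let i := (DerivedCategory.singleFunctorIsoCompQ X.Modules m).app (Coh.structureModule X)
  let S := DerivedCategory.singleFunctor X.Modules m
  obtain ⟨a', ha⟩ := S.map_surjective (i.hom ≫ a ≫ i.inv)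
  obtain ⟨b', hb⟩ := S.map_surjective (i.hom ≫ b ≫ i.inv)
  have h := congrArg S.map (DCohMore.BC.end_comm (Iso.refl (Coh.structureModule X)) a' b')
  rw [S.map_comp, S.map_comp, ha, hb] at h
  simpa using h

/-- A split epimorphism between shifts of the structure sheaf in one degree is an isomorphism. -/
theorem isIso_of_split {A B : DCoh.D X} {m : ℤ} (α : A ≅ uD X m) (β : B ≅ uD X m) (z : A ⟶ B) (c : B ⟶ A)
    (h : c ≫ z = 𝟙 B) : IsIso z := by
  let ζ := α.inv ≫ z ≫ β.hom
  let γ := β.inv ≫ c ≫ α.hom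
  have h1 : γ ≫ ζ = 𝟙 _ := by simp [ζ, γ, reassoc_of% h]
  haveI : IsIso ζ := ⟨γ, (comm_uD ζ γ).trans h1, h1⟩
  have hz : z = α.hom ≫ ζ ≫ β.inv := by simp [ζ]
  rw [hz]
  infer_instance

/-- Endomorphisms of the target of a map between shifts of the structure sheaf move to the source. -/
theorem exists_comm_uD {A B : DCoh.D X} {m : ℤ} (α : A ≅ uD X m) (β : B ≅ uD X m) (z : A ⟶ B) (δ : B ⟶ B) :
    ∃ δ' : A ⟶ A, z ≫ δ = δ' ≫ z := by
  refine ⟨α.hom ≫ (β.inv ≫ δ ≫ β.hom) ≫ α.inv, ?_⟩
  rw [← cancel_epi α.inv, ← cancel_mono β.hom]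
  have h := comm_uD (α.inv ≫ z ≫ β.hom) (β.inv ≫ δ ≫ β.hom)
  simp only [Category.assoc, Iso.hom_inv_id_assoc, Iso.inv_hom_id_assoc] at h ⊢
  exact h

/-- Inverse images along open immersions detect isomorphisms on their image. -/
theorem isIso_restrictD_opensRange (j : X ⟶ Y) [IsOpenImmersion j] [DCoh.HasLpull j] {A B : DCoh.D Y} (φ : A ⟶ B)
    [IsIso ((DCoh.Lpull j).map φ)] : IsIso ((DCoh.restrictD j.opensRange.ι).map φ) := by
  have i₆ : IsIso ((DCoh.restrictD (j.isoOpensRange.hom ≫ j.opensRange.ι)).map φ) :=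
    (NatIso.isIso_map_iff (lpullRestrictNatIso j ≪≫ restrictDCongr j.isoOpensRange_hom_ι.symm) φ).1 inferInstance
  have i₇ : IsIso ((DCoh.restrictD j.isoOpensRange.hom).map ((DCoh.restrictD j.opensRange.ι).map φ)) :=
    (NatIso.isIso_map_iff (restrictDComp j.isoOpensRange.hom j.opensRange.ι) φ).1 i₆
  haveI : (DCoh.restrictD j.isoOpensRange.hom).ReflectsIsomorphisms :=
    haveI : (DCoh.restrictD j.isoOpensRange.hom).Full := inferInstanceAs (restrictDEquiv j.isoOpensRange).functor.Full
    haveI : (DCoh.restrictD j.isoOpensRange.hom).Faithful :=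
      inferInstanceAs (restrictDEquiv j.isoOpensRange).functor.Faithful
    reflectsIsomorphisms_of_full_and_faithful _
  exact isIso_of_reflects_iso _ (DCoh.restrictD j.isoOpensRange.hom)

/-- An invertible object, on a small affine open, is a shift of the structure sheaf. -/
theorem exists_affine_uD [∀ (U V : Scheme.{u}) (j : U ⟶ V) [IsOpenImmersion j],
      PreservesFiniteLimits (Scheme.Modules.restrictFunctor j)]
    {K : DCoh.D X} (h : Dual3.IsInvertibleD K) (x : X) (O : X.Opens) (hx : x ∈ O) :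
    ∃ (U : X.Opens) (d : ℤ) (_ : DCoh.HasLpull U.ι), IsAffineOpen U ∧ x ∈ U ∧ U ≤ O ∧
      Nonempty ((DCoh.Lpull U.ι).obj K ≅ uD (U : Scheme.{u}) d) := by
  obtain ⟨W, n, hxW, ⟨e⟩⟩ := h x
  obtain ⟨_, ⟨U : X.Opens, hU, rfl⟩, hxU, hUW⟩ :=
    X.isBasis_affineOpens.exists_subset_of_mem_open (a := x) (u := (W ⊓ O : X.Opens)) ⟨hxW, hx⟩ (W ⊓ O).isOpen
  haveI := DCohLib.hasLpull U.ι
  obtain ⟨s⟩ := nonempty_shift_inD (X := (U : Scheme.{u})) n
  let k := X.homOfLE (show U ≤ W from fun y hy => (hUW hy).1)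
  refine ⟨U, -n, inferInstance, hU, hxU, fun y hy => (hUW hy).2, ⟨(lpullRestrictNatIso U.ι).app K ≪≫
    (restrictDCongr (X.homOfLE_ι _).symm).app K ≪≫ (restrictDComp k W.ι).app K ≪≫ (DCoh.restrictD k).mapIso e ≪≫
    Groth.Agent.DualCxLib.restrictStructureShift k n ≪≫ s⟩⟩

end Groth.Agent.ShriekBridge
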