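import Groth.Agent.ShriekBridge.GorBCBase
import Groth.Agent.FMKLib.NatPF
import Groth.Agent.DCohMore.BCMain

/-!
# Base change of invertible relative dualizing complexes to affine schemes
-/

set_option autoImplicit false
set_option linter.style.haveILetI false
set_option linter.unusedSectionVars false
set_option backward.isDefEq.respectTransparency false
set_option maxHeartbeats 4000000

universe u

open CategoryTheory CategoryTheory.Limits AlgebraicGeometry
open Groth.Agent.DCohLib Groth.Agent.DCohMore Groth.Agent.TwistShriek Groth.Agent.FMKLib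
open scoped TensorProduct

attribute [local instance] HasDerivedCategory.standard Groth.Agent.TwistShriek.linΓ

noncomputable section

namespace Groth.Agent.ShriekBridge

variable {S Y T T' : Scheme.{u}} {f : Y ⟶ S} {g : T ⟶ S} {f' : T' ⟶ T} {g' : T' ⟶ Y}
  [DCoh.HasRpush f] [DCoh.HasRpush f'] [DCoh.HasRpush g] [DCoh.HasRpush g'] [DCoh.HasLpull g] [DCoh.HasLpull g']
  {hf : DCoh.RpushPreservesQCoh f} {hf' : DCoh.RpushPreservesQCoh f'}
  {hg : DCoh.RpushPreservesQCoh g} {hg' : DCoh.RpushPreservesQCoh g'}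
  {a : DCoh.DQCoh S ⥤ DCoh.DQCoh Y} {a' : DCoh.DQCoh T ⥤ DCoh.DQCoh T'}
  [∀ (U V : Scheme.{u}) (j : U ⟶ V) [IsOpenImmersion j], PreservesFiniteLimits (Scheme.Modules.restrictFunctor j)]

/-- Base change of an invertible relative dualizing complex along a morphism from an affine scheme into an affine
open of the base, for any identification of the direct images. -/
theorem isIso_bcMap_gorenstein_local [CompactSpace Y] [QuasiSeparatedSpace Y] [CompactSpace S] [QuasiSeparatedSpace S]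
    [CompactSpace T'] [QuasiSeparatedSpace T'] [IsAffine T] [IsProper f] [Flat f] [LocallyOfFinitePresentation f]
    (hsq : IsPullback g' f' f g) (adj : DCoh.RpushQ f hf ⊣ a) (adj' : DCoh.RpushQ f' hf' ⊣ a')
    (e : DCoh.RpushQ g' hg' ⋙ DCoh.RpushQ f hf ≅ DCoh.RpushQ f' hf' ⋙ DCoh.RpushQ g hg)
    (hξ : ∀ M, IsIso (xiMap adj adj' e M))
    {S₀ : Scheme.{u}} [IsAffine S₀] (i : S₀ ⟶ S) [IsOpenImmersion i] (g₀ : T ⟶ S₀) (hg₀ : g₀ ≫ i = g)
    (OS : DCoh.DQCoh S) (hOS : Nonempty (OS.obj ≅ DCoh.inD S (Coh.structureModule S)))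
    (hM : Dual3.IsInvertibleD (a.obj OS).obj)
    (hN : Dual3.IsInvertibleD (a'.obj ((Dual3.LpullQ g (lpullQCoh g)).obj OS)).obj)
    [IsIso (xiMap adj adj' e ((Dual3.LpullQ g (lpullQCoh g)).obj OS))] :
    IsIso (bcAdjMap adj adj' e (adjQ g hg) (adjQ g' hg') OS) := by
  let μ := bcAdjMap adj adj' e (adjQ g hg) (adjQ g' hg') OS
  let O'' := (Dual3.LpullQ g (lpullQCoh g)).obj OS
  let M := a.obj OS
  let N := a'.obj O''
  haveI : IsIso ((ObjectProperty.ι _).map μ) := by
    refine isIso_of_restrictD _ fun z => ?_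
    -- affine neighbourhoods
    have hzS : f (g' z) ∈ i.opensRange :=
      ⟨g₀ (f' z), by rw [← Scheme.Hom.comp_apply, hg₀, ← Scheme.Hom.comp_apply, ← hsq.w, Scheme.Hom.comp_apply]⟩
    obtain ⟨U, d, hLU, hUaff, hzU, hUle, ⟨eU⟩⟩ := exists_affine_uD hM (g' z) (f ⁻¹ᵁ i.opensRange) hzS
    haveI := hLU
    haveI : IsAffine (U : Scheme.{u}) := hUaff
    let jU := U.ι
    haveI : QuasiCompact jU := quasiCompact_of_compactSpace jU
    let pU : (U : Scheme.{u}) ⟶ S₀ := IsOpenImmersion.lift i (jU ≫ f) (by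
      rintro _ ⟨y, rfl⟩
      exact hUle y.2)
    have hpU : pU ≫ i = jU ≫ f := IsOpenImmersion.lift_fac _ _ _
    haveI : Flat (pU ≫ i) := by rw [hpU]; infer_instance
    haveI : Flat pU := MorphismProperty.of_postcomp (W := @Flat) (W' := @IsOpenImmersion) pU i inferInstance ‹_›
    let U' := Limits.pullback jU g'
    let gU : U' ⟶ U := Limits.pullback.fst jU g'
    let jU' : U' ⟶ T' := Limits.pullback.snd jU g'
    have hU : IsPullback gU jU' jU g' := IsPullback.of_hasPullback _ _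
    have houter : IsPullback gU (jU' ≫ f') (pU ≫ i) (g₀ ≫ i) := by
      rw [hpU, hg₀]; exact hU.paste_vert hsq
    have hU₀ : IsPullback gU (jU' ≫ f') pU g₀ :=
      IsPullback.mk ⟨by rw [← cancel_mono i, Category.assoc, Category.assoc, houter.w]⟩ ⟨PullbackCone.IsLimit.mk _
        (fun s => houter.lift s.fst s.snd (by rw [reassoc_of% s.condition]))
        (fun s => houter.lift_fst _ _ _) (fun s => houter.lift_snd _ _ _)
        (fun s m h1 h2 => houter.hom_ext (by rw [houter.lift_fst, h1]) (by rw [houter.lift_snd, h2]))⟩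
    haveI : IsAffine U' := .of_isIso hU₀.isoPullback.hom
    obtain ⟨W, l, hLW, hWaff, hzW, hWle, ⟨eW⟩⟩ := exists_affine_uD hN z jU'.opensRange (by
      obtain ⟨y, -, hy⟩ := Scheme.exists_preimage_of_isPullback hU ⟨g' z, hzU⟩ z rfl
      exact ⟨y, hy⟩)
    haveI := hLW
    haveI : IsAffine (W : Scheme.{u}) := hWaff
    let w : (W : Scheme.{u}) ⟶ U' := IsOpenImmersion.lift jU' W.ι (by
      rintro _ ⟨y, rfl⟩
      exact hWle y.2)
    have hw : w ≫ jU' = W.ι := IsOpenImmersion.lift_fac _ _ _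
    haveI : IsOpenImmersion (w ≫ jU') := by rw [hw]; infer_instance
    haveI : IsOpenImmersion w := IsOpenImmersion.of_comp w jU'
    refine ⟨W, hzW, ?_⟩
    suffices IsIso ((DCoh.restrictD W.ι.opensRange.ι).map μ.hom) by
      rw [Scheme.Opens.opensRange_ι] at this
      exact this
    suffices IsIso ((DCoh.Lpull W.ι).map μ.hom) from isIso_restrictD_opensRange W.ι μ.hom
    haveI := hasLpull i; haveI := hasLpull pU; haveI := hasLpull gU; haveI := hasLpull jU'; haveI := hasLpull w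
    haveI := BC.hasRpush jU; haveI := BC.hasRpush jU'; haveI := BC.hasRpush gU; haveI := BC.hasRpush i
    haveI := BC.hasRpush g₀
    obtain ⟨cw⟩ := nonempty_lpull_square w jU' (𝟙 (W : Scheme.{u})) W.ι (by rw [Category.id_comp, hw])
    haveI := hasLpull (𝟙 (W : Scheme.{u}))
    let lW : DCoh.Lpull (𝟙 (W : Scheme.{u})) ≅ 𝟭 (DCoh.D W) := lpullRestrictNatIso _ ≪≫ restrictDId _
    let cW : DCoh.Lpull jU' ⋙ DCoh.Lpull w ≅ DCoh.Lpull W.ι :=
      cw ≪≫ Functor.isoWhiskerLeft _ lW ≪≫ Functor.rightUnitor _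
    suffices IsIso ((DCoh.Lpull w).map ((DCoh.Lpull jU').map μ.hom)) from
      (NatIso.isIso_map_iff cW μ.hom).1 this
    let zW := (DCoh.Lpull w).map ((DCoh.Lpull jU').map μ.hom)
    -- the identifications of the source and the target
    obtain ⟨cM⟩ := nonempty_lpull_square jU' g' gU jU hU.w.symm
    obtain ⟨uU⟩ := nonempty_lpull_uD gU d
    obtain ⟨uW⟩ := nonempty_lpull_uD w d
    let α : (DCoh.Lpull w).obj ((DCoh.Lpull jU').obj ((DCoh.Lpull g').obj M.obj)) ≅ uD (W : Scheme.{u}) d :=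
      (DCoh.Lpull w).mapIso (cM.app M.obj ≪≫ (DCoh.Lpull gU).mapIso eU ≪≫ uU) ≪≫ uW
    let β : (DCoh.Lpull w).obj ((DCoh.Lpull jU').obj N.obj) ≅ uD (W : Scheme.{u}) l := cW.app N.obj ≪≫ eW
    -- the twisted inverse image near `U`
    haveI : LocallyOfFiniteType f := inferInstance
    haveI := hasLpull f
    let E := DerivedCategory.Q.objPreimage M.obj
    let eE : DerivedCategory.Q.obj E ≅ M.obj := DerivedCategory.Q.objObjPreimageIso _
    haveI : DCoh.HasLTensorCx E := DCohLib.hasLTensorCx _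
    haveI : DCoh.HasLTensorCx (shiftUnitCx (U : Scheme.{u}) d) := DCohLib.hasLTensorCx _
    obtain ⟨ea⟩ := S7865.result Y S f hf a adj (fun J => S3600.result Y S f hf a adj J) OS hOS E ⟨eE⟩
    obtain ⟨l₁⟩ := nonempty_lpull_lTensor_natIso jU E (shiftUnitCx (U : Scheme.{u}) d)
      (eU.symm ≪≫ (DCoh.Lpull jU).mapIso eE.symm)
    obtain ⟨l₂⟩ := nonempty_lpull_square jU f pU i hpU.symm
    let Tn := DCoh.LTensorCx (shiftUnitCx (U : Scheme.{u}) d)
    haveI : Tn.IsEquivalence := isEquivalence_lTensor_shiftUnit d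
    haveI : Tn.Additive := CategoryTheory.Functor.additive_of_preserves_binary_products _
    let ιS := ObjectProperty.ι (DCoh.IsQCohD (X := S))
    let ιY := ObjectProperty.ι (DCoh.IsQCohD (X := Y))
    let Ψ : (a ⋙ ιY) ⋙ DCoh.Lpull jU ≅ ιS ⋙ (DCoh.Lpull i ⋙ DCoh.Lpull pU) ⋙ Tn :=
      Functor.isoWhiskerRight ea (DCoh.Lpull jU) ≪≫
        Functor.associator ιS (DCoh.Lpull f ⋙ DCoh.LTensorCx E) (DCoh.Lpull jU) ≪≫
        Functor.isoWhiskerLeft ιS (Functor.associator (DCoh.Lpull f) (DCoh.LTensorCx E) (DCoh.Lpull jU) ≪≫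
          Functor.isoWhiskerLeft (DCoh.Lpull f) l₁ ≪≫
          (Functor.associator (DCoh.Lpull f) (DCoh.Lpull jU) Tn).symm ≪≫
          Functor.isoWhiskerRight l₂ Tn)
    let G := (DCoh.RpushQ g hg).obj O''
    let Lp := DCoh.Lpull pU
    let Li := DCoh.Lpull i
    haveI := lpull_additive pU; haveI := lpull_additive w; haveI := lpull_additive gU; haveI := lpull_additive i
    haveI := lpull_additive jU
    -- transposition from `U` to `U'`
    haveI : QuasiCompact g := quasiCompact_of_compactSpace g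
    haveI : QuasiSeparated g := inferInstance
    haveI : QuasiCompact g' := MorphismProperty.of_isPullback (P := @QuasiCompact) hsq.flip ‹QuasiCompact g›
    haveI : QuasiSeparated g' := MorphismProperty.of_isPullback (P := @QuasiSeparated) hsq.flip ‹QuasiSeparated g›
    haveI := BC.hasRpush (jU' ≫ g'); haveI := BC.hasRpush (gU ≫ jU)
    obtain ⟨r₁⟩ := nonempty_rpushCompIso jU' g'
    obtain ⟨r₂⟩ := nonempty_rpushCompIso gU jU
    let e' : DCoh.Rpush jU' ⋙ DCoh.Rpush g' ≅ DCoh.Rpush gU ⋙ DCoh.Rpush jU :=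
      r₁ ≪≫ eqToIso (by simp only [hU.w]) ≪≫ r₂.symm
    let AU := lpullRpushAdj gU
    let bc := BC.bc (lpullRpushAdj jU) (lpullRpushAdj jU') e'
    haveI hbc : IsIso (bc.app N.obj) :=
      BC.bcp_qcqs g' jU jU' gU hU.flip BC.TI.of_flat (lpullRpushAdj jU) (lpullRpushAdj jU') e' N.obj N.property
    let τ : ∀ {P : DCoh.D U}, (P ⟶ (DCoh.Lpull jU).obj ((DCoh.Rpush g').obj N.obj)) →
        ((DCoh.Lpull gU).obj P ⟶ (DCoh.Lpull jU').obj N.obj) :=
      fun {P} x => (AU.homEquiv _ _).symm (x ≫ bc.app N.obj)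
    have hτ : ∀ {P : DCoh.D U}, Function.Surjective (τ (P := P)) := fun {P} y =>
      ⟨AU.homEquiv _ _ y ≫ inv (bc.app N.obj), by simp [τ]⟩
    have hτadd : ∀ {P : DCoh.D U} (x y : P ⟶ (DCoh.Lpull jU).obj ((DCoh.Rpush g').obj N.obj)),
        τ (x + y) = τ x + τ y := fun {P} x y => by
      simp only [τ, AU.homEquiv_counit, Preadditive.add_comp, Functor.map_add]
    have hτ0 : ∀ {P : DCoh.D U}, τ (0 : P ⟶ (DCoh.Lpull jU).obj ((DCoh.Rpush g').obj N.obj)) = 0 := fun {P} => by
      simp only [τ, AU.homEquiv_counit, zero_comp, Functor.map_zero]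
    -- restriction to `S₀` is bijective on maps into direct images from `T`
    haveI := BC.hasRpush (g₀ ≫ i)
    obtain ⟨r₃⟩ := nonempty_rpushCompIso g₀ i
    obtain ⟨ffi⟩ := BC.nonempty_fullyFaithful_rpush_open i
    haveI := ffi.full; haveI := ffi.faithful
    let eG : G.obj ≅ (DCoh.Rpush i).obj ((DCoh.Rpush g₀).obj O''.obj) :=
      (eqToIso (by simp only [hg₀]) : DCoh.Rpush g ≅ DCoh.Rpush (g₀ ≫ i)).app _ ≪≫ r₃.symm.app _
    have hres : ∀ A : DCoh.D S, Function.Surjective fun v : A ⟶ G.obj => Li.map v := by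
      intro A φ
      let Ai := lpullRpushAdj i
      haveI : IsIso (Ai.unit.app G.obj) := (NatTrans.isIso_app_iff_of_iso Ai.unit eG).2 inferInstance
      refine ⟨Ai.homEquiv _ _ φ ≫ inv (Ai.unit.app G.obj), (Ai.homEquiv _ _).injective ?_⟩
      rw [Ai.homEquiv_unit, ← Functor.comp_map, ← Ai.unit.naturality]
      simp
    -- maps out of the shifts of the structure sheaf of `S₀`
    obtain ⟨eOS⟩ := hOS
    let oS : OS.obj ≅ uD S 0 := eOS ≪≫ inDIso
    obtain ⟨gT⟩ := nonempty_lpull_uD g 0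
    let oT : O''.obj ≅ uD T 0 := (DCoh.Lpull g).mapIso oS ≪≫ gT
    have hv0 : ∀ m : ℤ, m ≠ 0 → ∀ φ : Li.obj (uD S m) ⟶ Li.obj G.obj, φ = 0 := by
      intro m hm φ
      obtain ⟨v, rfl⟩ := hres _ φ
      obtain ⟨gm⟩ := nonempty_lpull_uD g m
      let Ag := lpullRpushAdj g
      have h0 : (Ag.homEquiv _ _).symm (show uD S m ⟶ (DCoh.Rpush g).obj O''.obj from v) = 0 := by
        have h00 := eq_zero_uD (X := T) hm
          (gm.inv ≫ (Ag.homEquiv _ _).symm (show uD S m ⟶ (DCoh.Rpush g).obj O''.obj from v) ≫ oT.hom)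
        rw [← cancel_epi gm.inv, ← cancel_mono oT.hom, Category.assoc, h00, comp_zero, zero_comp]
      haveI : (DCoh.Rpush g).IsRightAdjoint := Ag.isRightAdjoint
      haveI : (DCoh.Rpush g).Additive := CategoryTheory.Functor.additive_of_preserves_binary_products _
      have hv : v = 0 := ((Ag.homEquiv _ _).apply_symm_apply v).symm.trans
        ((congrArg _ h0).trans (by rw [Ag.homEquiv_unit, Functor.map_zero, comp_zero]))
      show Li.map v = 0
      rw [hv, Functor.map_zero]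
    -- the shifted sources on `U`
    letI := algTop pU
    haveI := flat_top pU
    have hspan : ∀ P : DCoh.D S₀, DCoh.IsPerfect P →
        HomBC pU (idTop S₀) (idTop (U : Scheme.{u})) (fun _ => rfl) P (Li.obj G.obj) := fun P hP =>
      homBC_affine pU _ _ _ (isPushout_top pU) hP _ (TildeD.isQCohD_lpull i G.obj G.property)
    let Qm : ℤ → DCoh.D U := fun m => Tn.obj (Lp.obj (Li.obj (uD S m)))
    have hQ : ∀ m k : ℤ, m + d = k → Nonempty (Qm m ≅ uD (U : Scheme.{u}) k) := fun m k hk => by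
      obtain ⟨a₁⟩ := nonempty_lpull_uD i m
      obtain ⟨a₂⟩ := nonempty_lpull_uD pU m
      obtain ⟨a₃⟩ := nonempty_shift_inD (X := (U : Scheme.{u})) (-d)
      obtain ⟨a₄⟩ := nonempty_shift_uD (X := (U : Scheme.{u})) (-d) m k (by omega)
      obtain ⟨a₅⟩ := nonempty_lTensor_shift_structure (shiftUnitCx (U : Scheme.{u}) d) (-d)
        ⟨eqToIso (by rw [neg_neg]) ≪≫ a₃.symm⟩ (uD (U : Scheme.{u}) m)
      exact ⟨Tn.mapIso (Lp.mapIso a₁ ≪≫ a₂) ≪≫ a₅ ≪≫ a₄⟩
    let ξi : (DCoh.Rpush g').obj N.obj ≅ (a.obj G).obj :=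
      (ObjectProperty.ι _).mapIso (@asIso _ _ _ _ (xiMap adj adj' e O'') (hξ O''))
    let toS : (DCoh.Lpull jU).obj ((DCoh.Rpush g').obj N.obj) ≅ Tn.obj (Lp.obj (Li.obj G.obj)) :=
      (DCoh.Lpull jU).mapIso ξi ≪≫ Ψ.app G
    -- vanishing in the other degrees
    have hzero : ∀ k : ℤ, k ≠ d → ∀ x : uD (U : Scheme.{u}) k ⟶ (DCoh.Lpull jU).obj ((DCoh.Rpush g').obj N.obj),
        x = 0 := by
      intro k hk x
      obtain ⟨q⟩ := hQ (k - d) k (by omega)
      obtain ⟨y, hy⟩ := Tn.map_surjective (q.hom ≫ x ≫ toS.hom)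
      obtain ⟨y', hy'⟩ := (hspan (Li.obj (uD S (k - d)))
        (isPerfect_lpull i _ (isPerfect_shiftUnitCx (k - d)))).2 y
      have hy0 : y = 0 := by
        rw [← hy']
        letI := homMod (idTop S₀) (Li.obj (uD S (k - d))) (Li.obj G.obj)
        clear hy hy'
        induction y' using TensorProduct.induction_on with
        | zero => exact map_zero _
        | tmul s φ =>
          rw [bcHom_tmul, hv0 (k - d) (by omega) φ, Functor.map_zero, comp_zero]
        | add p q hp hq => rw [map_add, hp, hq, add_zero]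
      rw [← cancel_epi q.hom, ← cancel_mono toS.hom, Category.assoc, ← hy, hy0, Functor.map_zero, comp_zero,
        zero_comp]
    have himage : ∀ k : ℤ,
        (∀ x : uD (U : Scheme.{u}) k ⟶ (DCoh.Lpull jU).obj ((DCoh.Rpush g').obj N.obj),
          ∃ c, (DCoh.Lpull w).map (τ x) = c ≫ zW) →
        ∀ y : uD (W : Scheme.{u}) k ⟶ (DCoh.Lpull w).obj ((DCoh.Lpull jU').obj N.obj), ∃ c, y = c ≫ zW := by
      intro k hk y
      obtain ⟨a₁⟩ := nonempty_lpull_uD gU k
      obtain ⟨a₂⟩ := nonempty_lpull_uD w k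
      let σ : (DCoh.Lpull w).obj ((DCoh.Lpull gU).obj (uD (U : Scheme.{u}) k)) ≅ uD (W : Scheme.{u}) k :=
        (DCoh.Lpull w).mapIso a₁ ≪≫ a₂
      letI := algTop w
      haveI := flat_top w
      obtain ⟨y', hy'⟩ := (homBC_affine w (idTop U') (idTop (W : Scheme.{u})) (fun _ => rfl) (isPushout_top w)
        (P := (DCoh.Lpull gU).obj (uD (U : Scheme.{u}) k)) (isPerfect_lpull gU _ (isPerfect_shiftUnitCx k))
        ((DCoh.Lpull jU').obj N.obj) (TildeD.isQCohD_lpull jU' N.obj N.property)).2 (σ.hom ≫ y)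
      suffices ∃ c, σ.hom ≫ y = c ≫ zW by
        obtain ⟨c, hc⟩ := this
        exact ⟨σ.inv ≫ c, by rw [Category.assoc, ← hc, Iso.inv_hom_id_assoc]⟩
      rw [← hy']
      letI := homMod (idTop U') ((DCoh.Lpull gU).obj (uD (U : Scheme.{u}) k)) ((DCoh.Lpull jU').obj N.obj)
      clear hy'
      induction y' using TensorProduct.induction_on with
      | zero => exact ⟨0, by rw [map_zero, zero_comp]⟩
      | tmul s φ =>
        obtain ⟨x, rfl⟩ := hτ φ
        obtain ⟨c, hc⟩ := hk x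
        exact ⟨sc (idTop (W : Scheme.{u}) s) _ ≫ c, by rw [bcHom_tmul, hc, Category.assoc]⟩
      | add p q hp hq =>
        obtain ⟨c, hc⟩ := hp
        obtain ⟨c', hc'⟩ := hq
        exact ⟨c + c', by rw [map_add, hc, hc', Preadditive.add_comp]⟩
    -- the degrees agree
    by_cases hld : l = d
    swap
    · have hid : 𝟙 (uD (W : Scheme.{u}) l) = 0 := by
        have hall : ∀ x : uD (U : Scheme.{u}) l ⟶ (DCoh.Lpull jU).obj ((DCoh.Rpush g').obj N.obj),
            (DCoh.Lpull w).map (τ x) = 0 := fun x => by rw [hzero l hld x, hτ0, Functor.map_zero]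
        obtain ⟨c, hc⟩ := himage l (fun x => ⟨0, by rw [hall x, zero_comp]⟩) β.inv
        obtain ⟨a₁⟩ := nonempty_lpull_uD gU l
        obtain ⟨a₂⟩ := nonempty_lpull_uD w l
        rw [← β.inv_hom_id, hc, Category.assoc]
        -- maps from degree `l` into degree `d` vanish
        have : c = 0 := by
          rw [← cancel_mono α.hom, zero_comp]
          exact eq_zero_uD hld _
        rw [this, zero_comp]
      have hl0 : IsZero (uD (W : Scheme.{u}) l) := (IsZero.iff_id_eq_zero _).2 hid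
      obtain ⟨s⟩ := nonempty_shift_uD (X := (W : Scheme.{u})) (l - d) l d (by omega)
      have hd0 : IsZero (uD (W : Scheme.{u}) d) := ((shiftFunctor _ (l - d)).map_isZero hl0).of_iso s.symm
      exact ⟨0, (hd0.of_iso α).eq_of_src _ _, (hl0.of_iso β).eq_of_src _ _⟩
    subst hld
    -- the canonical element and its translates
    let P₀ := Qm 0
    let o₀ : Tn.obj (Lp.obj (Li.obj OS.obj)) ≅ P₀ := Tn.mapIso (Lp.mapIso (Li.mapIso oS))
    let ι₀ : Tn.obj (Lp.obj (Li.obj OS.obj)) ⟶ (DCoh.Lpull jU).obj M.obj := Ψ.inv.app OS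
    let Gd : (uD (U : Scheme.{u}) l ⟶ (DCoh.Lpull jU).obj ((DCoh.Rpush g').obj N.obj)) → Prop :=
      fun x => ∃ c, (DCoh.Lpull w).map (τ x) = c ≫ zW
    have hgood : ∀ x, Gd x := by
      intro x
      obtain ⟨q⟩ := hQ 0 l (by omega)
      obtain ⟨y, hy⟩ := Tn.map_surjective (o₀.hom ≫ q.hom ≫ x ≫ toS.hom)
      have hx : x = q.inv ≫ o₀.inv ≫ Tn.map y ≫ toS.inv := by simp [hy]
      obtain ⟨y', hy'⟩ := (hspan (Li.obj OS.obj)
        (isPerfect_lpull i _ (isPerfect_iso oS.symm (isPerfect_shiftUnitCx 0)))).2 y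
      rw [hx, ← hy']
      letI := homMod (idTop S₀) (Li.obj OS.obj) (Li.obj G.obj)
      clear hx hy hy'
      induction y' using TensorProduct.induction_on with
      | zero =>
        exact ⟨0, by rw [map_zero, Functor.map_zero, zero_comp, comp_zero, comp_zero, hτ0, Functor.map_zero, zero_comp]⟩
      | add p q' hp hq =>
        obtain ⟨c, hc⟩ := hp
        obtain ⟨c', hc'⟩ := hq
        refine ⟨c + c', ?_⟩
        rw [map_add, Functor.map_add, Preadditive.add_comp, Preadditive.comp_add, Preadditive.comp_add, hτadd,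
          Functor.map_add, hc, hc', Preadditive.add_comp]
      | tmul s φ =>
        obtain ⟨v, rfl⟩ := hres _ φ
        let vQ : OS ⟶ G := ObjectProperty.homMk v
        let δ : O'' ⟶ O'' := ((adjQ g hg).homEquiv OS O'').symm vQ
        have hδ : (adjQ g hg).unit.app OS ≫ (DCoh.RpushQ g hg).map δ = vQ :=
          ((adjQ g hg).homEquiv_unit _ _ _).symm.trans (Equiv.apply_symm_apply _ _)
        have hkey : a.map vQ ≫ inv (xiMap adj adj' e O'') =
            (adjQ g' hg').unit.app M ≫ (DCoh.RpushQ g' hg').map (μ ≫ a'.map δ) := by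
          rw [Functor.map_comp, ← Category.assoc, unit_bcAdjMap, ← hδ, Functor.map_comp, Category.assoc,
            Category.assoc]
          refine congrArg _ ?_
          rw [IsIso.comp_inv_eq, Category.assoc, IsIso.eq_inv_comp]
          exact (xiMap_natural adj adj' e δ).symm
        have hnat : Tn.map (Lp.map (Li.map v)) ≫ toS.inv =
            ι₀ ≫ (DCoh.Lpull jU).map ((adjQ g' hg').unit.app M).hom ≫
              (DCoh.Lpull jU).map ((DCoh.Rpush g').map (μ ≫ a'.map δ).hom) := by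
          have hn := Ψ.inv.naturality vQ
          simp only [Functor.comp_map] at hn
          show Tn.map (Lp.map (Li.map v)) ≫ Ψ.inv.app G ≫ (DCoh.Lpull jU).map (inv (xiMap adj adj' e O'')).hom = _
          erw [reassoc_of% hn]
          rw [← Functor.map_comp, ← Functor.map_comp]
          exact congrArg (fun t => ι₀ ≫ (DCoh.Lpull jU).map t) (congrArg InducedCategory.Hom.hom hkey)
        let u₀ : uD (U : Scheme.{u}) l ⟶ Tn.obj (Lp.obj (Li.obj OS.obj)) :=
          q.inv ≫ o₀.inv ≫ Tn.map (sc (idTop (U : Scheme.{u}) s) _)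
        let b₀ : uD (U : Scheme.{u}) l ⟶ (DCoh.Lpull jU).obj ((DCoh.Rpush g').obj ((DCoh.Lpull g').obj M.obj)) :=
          u₀ ≫ ι₀ ≫ (DCoh.Lpull jU).map ((adjQ g' hg').unit.app M).hom
        let y₀ := (AU.homEquiv _ _).symm (b₀ ≫ bc.app ((DCoh.Lpull g').obj M.obj))
        obtain ⟨δ', hδ'⟩ := exists_comm_uD α β zW ((DCoh.Lpull w).map ((DCoh.Lpull jU').map (a'.map δ).hom))
        refine ⟨(DCoh.Lpull w).map y₀ ≫ δ', ?_⟩
        rw [bcHom_tmul, Functor.map_comp, Category.assoc, hnat]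
        have hb : q.inv ≫ o₀.inv ≫ Tn.map (sc (idTop (U : Scheme.{u}) s) _) ≫ ι₀ ≫
            (DCoh.Lpull jU).map ((adjQ g' hg').unit.app M).hom ≫
              (DCoh.Lpull jU).map ((DCoh.Rpush g').map (μ ≫ a'.map δ).hom) =
            b₀ ≫ (DCoh.Lpull jU).map ((DCoh.Rpush g').map (μ ≫ a'.map δ).hom) := by
          simp only [b₀, u₀, Category.assoc]
        erw [hb]
        have hn2 := bc.naturality (μ ≫ a'.map δ).hom
        simp only [Functor.comp_map] at hn2
        show (DCoh.Lpull w).map ((AU.homEquiv _ _).symm ((b₀ ≫ _) ≫ bc.app N.obj)) = _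
        rw [Category.assoc]
        erw [hn2]
        rw [← Category.assoc b₀, AU.homEquiv_naturality_right_symm, Functor.map_comp]
        refine (congrArg (_ ≫ ·) ?_).trans (Category.assoc _ _ _).symm
        show (DCoh.Lpull w).map ((DCoh.Lpull jU').map (μ.hom ≫ (a'.map δ).hom)) = _
        rw [Functor.map_comp, Functor.map_comp]
        exact hδ'
    obtain ⟨c, hc⟩ := himage l hgood β.inv
    exact isIso_of_split α β zW (β.hom ≫ c) (by rw [Category.assoc, ← hc, β.hom_inv_id])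
  exact isIso_of_reflects_iso μ (ObjectProperty.ι _)

end Groth.Agent.ShriekBridge
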