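import Groth.Agent.ShriekBridge.PolyShriek
import Groth.Agent.ShriekBridge.ClosedShriek
import Groth.Agent.TwistShriek.ShriekComp
import Groth.Agent.TwistShriek.FlatBCHyp
import Groth.Agent.TildeLpull.Main
import Groth.Agent.DRingLib.BaseChange

/-!
# The upper shriek on affine opens is the algebraic upper shriek
-/

set_option autoImplicit false
set_option linter.style.haveILetI false
set_option linter.unusedSectionVars false
set_option backward.isDefEq.respectTransparency false
set_option maxHeartbeats 2000000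

universe u

open CategoryTheory CategoryTheory.Limits AlgebraicGeometry
open Groth.Agent.DCohLib Groth.Agent.DCohMore Groth.Agent.TwistShriek

attribute [local instance] HasDerivedCategory.standard

noncomputable section

namespace Groth.Agent.ShriekBridge

variable {R A : Type u} [CommRing R] [CommRing A] [Algebra R A] {n : ℕ}

/-- A presentation factors the structure morphism through affine space. -/
theorem spec_algebraMap_eq (ψ : MvPolynomial (Fin n) R →ₐ[R] A) :
    TildeRpush.fA ψ.toRingHom ≫ Spec.map (CommRingCat.ofHom (algebraMap R (MvPolynomial (Fin n) R))) =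
      Spec.map (CommRingCat.ofHom (algebraMap R A)) := by
  rw [← Spec.map_comp, ← CommRingCat.ofHom_comp]
  exact congrArg (fun k => Spec.map (CommRingCat.ofHom k)) (RingHom.ext fun r => ψ.commutes r)

/-- The upper shriek on an affine open over an affine open is computed by a polynomial presentation. -/
theorem nonempty_restrict_shriekC {X Y : Scheme.{u}} [IsNoetherian Y] {f : X ⟶ Y} (c : DEt.Compactification f)
    [DCoh.HasRpush c.fbar] {hc : DCoh.RpushPreservesQCoh c.fbar} {a : DCoh.DQCoh Y ⥤ DCoh.DQCoh c.Xbar}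
    (adj : DCoh.RpushQ c.fbar hc ⊣ a) [PreservesFiniteLimits (Scheme.Modules.restrictFunctor c.j)]
    (v : Spec (CommRingCat.of R) ⟶ Y) [IsOpenImmersion v]
    [PreservesFiniteLimits (Scheme.Modules.restrictFunctor v)]
    (u : Spec (CommRingCat.of A) ⟶ X) [IsOpenImmersion u]
    [PreservesFiniteLimits (Scheme.Modules.restrictFunctor u)]
    (w : u ≫ f = Spec.map (CommRingCat.ofHom (algebraMap R A)) ≫ v)
    [PreservesFiniteLimits (tilde.functor (CommRingCat.of R))]
    [PreservesFiniteLimits (tilde.functor (CommRingCat.of A))]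
    (ψ : MvPolynomial (Fin n) R →ₐ[R] A) (hψ : Function.Surjective ψ)
    [DRing.HasLBaseChange (algebraMap R (MvPolynomial (Fin n) R))]
    (Rψ : Dual.D (MvPolynomial (Fin n) R) ⥤ Dual.D A) (adjR : DRing.restrictD ψ.toRingHom ⊣ Rψ)
    (K : DCoh.DQCoh Y) (hK : Dual3.IsBddBelowQ Y K) (ω : Dual.D R)
    (eω : (DCoh.restrictD v).obj K.obj ≅ (DCoh.tildeD (CommRingCat.of R)).obj ω) :
    Nonempty ((DCoh.restrictD u).obj ((Dual3.shriekC c a).obj K) ≅
      (DCoh.tildeD (CommRingCat.of A)).obj (Dual2.shriekVia n Rψ ω)) := by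
  let MP := MvPolynomial (Fin n) R
  let sA := Spec.map (CommRingCat.ofHom (algebraMap R A))
  haveI : IsNoetherian (Spec (CommRingCat.of R)) := isNoetherian_of_affine_open v
  haveI : IsNoetherianRing R := isNoetherian_Spec.1 (inferInstance : IsNoetherian (Spec (CommRingCat.of R)))
  -- over the affine open of the target
  let W := pullback c.fbar v
  let gW : W ⟶ c.Xbar := pullback.fst c.fbar v
  let fW : W ⟶ Spec (CommRingCat.of R) := pullback.snd c.fbar v
  let jW : Spec (CommRingCat.of A) ⟶ W := pullback.lift (u ≫ c.j) sA (by rw [Category.assoc, c.fac, w])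
  have hjW₁ : jW ≫ gW = u ≫ c.j := pullback.lift_fst _ _ _
  have hjW₂ : jW ≫ fW = sA := pullback.lift_snd _ _ _
  haveI : IsOpenImmersion (jW ≫ gW) := by rw [hjW₁]; infer_instance
  haveI : IsOpenImmersion jW := IsOpenImmersion.of_comp jW gW
  haveI : CompactSpace W := QuasiCompact.compactSpace_of_compactSpace fW
  haveI : QuasiSeparatedSpace W := quasiSeparatedSpace_of_quasiSeparated fW
  haveI : CompactSpace c.Xbar := QuasiCompact.compactSpace_of_compactSpace c.fbar
  haveI : QuasiSeparatedSpace c.Xbar := quasiSeparatedSpace_of_quasiSeparated c.fbar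
  haveI : QuasiCompact v := quasiCompact_of_compactSpace v
  haveI : QuasiCompact gW :=
    MorphismProperty.of_isPullback (P := @QuasiCompact) (IsPullback.of_hasPullback c.fbar v).flip inferInstance
  haveI := hasLpull v; haveI := hasLpull gW
  haveI := BC.hasRpush v; haveI := BC.hasRpush gW; haveI := BC.hasRpush fW
  haveI := isLeftAdjoint_rpushQ' fW
  let a' := (DCoh.RpushQ fW (rpushQC fW)).rightAdjoint
  let adj' : DCoh.RpushQ fW (rpushQC fW) ⊣ a' := Adjunction.ofIsLeftAdjoint _
  obtain ⟨bc⟩ := nonempty_openBaseChange (IsPullback.of_hasPullback c.fbar v) (rpushQC v) (rpushQC gW) adj adj'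
  let Kv : DCoh.DQCoh (Spec (CommRingCat.of R)) := (Dual3.LpullQ v (lpullQCoh v)).obj K
  obtain ⟨lv⟩ := nonempty_restrictD_iso_lpull v
  obtain ⟨lg⟩ := nonempty_restrictD_iso_lpull gW
  let eKv : Kv.obj ≅ (DCoh.tildeD (CommRingCat.of R)).obj ω := (lv.app K.obj).symm ≪≫ eω
  have hKv : Dual3.IsBddBelowQ _ Kv := by
    obtain ⟨m, hm⟩ := hK
    haveI := hm
    exact ⟨m, isGE_lpull_flat v m K.obj⟩
  -- the factorisation through affine space
  let g := Spec.map (CommRingCat.ofHom (algebraMap R MP))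
  let i := TildeRpush.fA ψ.toRingHom
  haveI : IsClosedImmersion i := IsClosedImmersion.spec_of_surjective _ hψ
  have hfac : i ≫ g = sA := spec_algebraMap_eq ψ
  let cgf : DEt.Compactification (i ≫ g) :=
    { Xbar := W, j := jW, fbar := fW, isOpenImmersion := inferInstance, isProper := inferInstance,
      fac := hjW₂.trans hfac.symm }
  let cf : DEt.Compactification i :=
    { Xbar := Spec (CommRingCat.of A), j := 𝟙 _, fbar := i, isOpenImmersion := inferInstance,
      isProper := inferInstance, fac := Category.id_comp i }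
  haveI : IsProper (CohB1.ProjSpace.toSpec n R) := CompleteCurve.isProper_toSpec n R
  let cg : DEt.Compactification g :=
    { Xbar := CohB1.ProjSpace n R, j := chartP n R, fbar := CohB1.ProjSpace.toSpec n R,
      isOpenImmersion := inferInstance, isProper := inferInstance, fac := chartP_toSpec n R }
  haveI : CompactSpace cg.Xbar := QuasiCompact.compactSpace_of_compactSpace cg.fbar
  haveI : QuasiSeparatedSpace cg.Xbar := quasiSeparatedSpace_of_quasiSeparated cg.fbar
  haveI : DCoh.HasRpush cgf.fbar := ‹DCoh.HasRpush fW›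
  haveI : DCoh.HasRpush cf.fbar := BC.hasRpush _
  haveI : DCoh.HasRpush cg.fbar := BC.hasRpush _
  haveI : DCoh.HasRpush i := ‹DCoh.HasRpush cf.fbar›
  haveI : DCoh.HasRpush (CohB1.ProjSpace.toSpec n R) := ‹DCoh.HasRpush cg.fbar›
  haveI := isLeftAdjoint_rpushQ' i
  haveI := isLeftAdjoint_rpushQ' (CohB1.ProjSpace.toSpec n R)
  let ai := (DCoh.RpushQ i (rpushQC i)).rightAdjoint
  let adji : DCoh.RpushQ i (rpushQC i) ⊣ ai := Adjunction.ofIsLeftAdjoint _
  let b := (DCoh.RpushQ (CohB1.ProjSpace.toSpec n R) (rpushQC _)).rightAdjoint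
  let adjb : DCoh.RpushQ (CohB1.ProjSpace.toSpec n R) (rpushQC _) ⊣ b := Adjunction.ofIsLeftAdjoint _
  haveI := hasLpull g
  haveI := hasLpull (chartP n R)
  haveI : IsNoetherian (Spec (CommRingCat.of MP)) := inferInstance
  have hres : ∀ M : DCoh.D cg.Xbar, DCoh.IsQCohD M → DCoh.IsQCohD ((DCoh.restrictD cg.j).obj M) := fun M hM =>
    TildeD.isQCohD_of_iso ((lpullRestrictNatIso (chartP n R)).app M) (lpullQCoh (chartP n R) M hM)
  obtain ⟨cmp⟩ := nonempty_shriekC_comp (f := i) (g := g) cf cg cgf (hf := rpushQC i) (hg := rpushQC _)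
    (hgf := rpushQC fW) adji adjb adj' hres
  obtain ⟨eP⟩ := nonempty_shriek_chart n R (rpushQC _) b adjb Kv
  -- affine space
  haveI : PreservesFiniteLimits (tilde.functor (CommRingCat.of MP)) := TildeD.preservesFiniteLimits_tilde
  let L := (DRing.LBaseChange (algebraMap R MP)).obj ω
  let B : DCoh.DQCoh (Spec (CommRingCat.of MP)) :=
    ⟨(Dual3.shriekC cg b).obj Kv, hres (b.obj Kv).obj (b.obj Kv).property⟩
  let tP := DCoh.tildeD (CommRingCat.of MP)
  let eB : tP.obj (L⟦(n : ℤ)⟧) ≅ B.obj :=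
    (tP.commShiftIso (n : ℤ)).app L ≪≫ (shiftFunctor _ (n : ℤ)).mapIso
      ((TildeLpull.lbcLpullIso (algebraMap R MP)).app ω ≪≫ (DCoh.Lpull g).mapIso eKv.symm) ≪≫ eP.symm
  obtain ⟨eC⟩ := nonempty_rightAdjoint_affine ψ.toRingHom (rpushQC i) ai adji Rψ adjR B _ eB
  letI := adjR.rightAdjointCommShift ℤ
  let eS : Rψ.obj (L⟦(n : ℤ)⟧) ≅ Dual2.shriekVia n Rψ ω := (Rψ.commShiftIso (n : ℤ)).app L
  haveI : IsOpenImmersion (u ≫ c.j) := inferInstance
  exact ⟨((restrictDComp u c.j).app _).symm ≪≫ (restrictDCongr hjW₁.symm).app _ ≪≫ (restrictDComp jW gW).app _ ≪≫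
    (DCoh.restrictD jW).mapIso (lg.app _ ≪≫ (ObjectProperty.ι _).mapIso (bc.app ⟨K, hK⟩)) ≪≫
    cmp.app ⟨Kv, hKv⟩ ≪≫ (restrictDId _).app _ ≪≫ eC ≪≫ (DCoh.tildeD (CommRingCat.of A)).mapIso eS⟩

end Groth.Agent.ShriekBridge
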