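import Groth.Agent.ShriekAlgLib.Self
import Groth.Agent.ShriekAlgLib.PolyPerfect
import Groth.Agent.PerfMorLib.Scheme
import Groth.Agent.PerfMorLib.Poly

/-!
# The upper shriek of the base for a ring map of finite tor dimension
-/

set_option autoImplicit false
set_option backward.isDefEq.respectTransparency false
set_option linter.style.haveILetI false
set_option maxHeartbeats 800000

universe u

open CategoryTheory CategoryTheory.Limits
attribute [local instance] HasDerivedCategory.standard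

noncomputable section

namespace Groth.Agent.ShriekBridge

open DRingLib DCohLib ShriekAlgLib

variable (R A : Type u) [CommRing R] [CommRing A] [IsNoetherianRing R] [Algebra R A]

/-- A finite type algebra of finite tor dimension is perfect over every presentation. -/
theorem exists_perfect_amp (htd : DRing.HasFiniteTorDim R A) (n : ℕ) (ψ : MvPolynomial (Fin n) R →ₐ[R] A)
    (hψ : Function.Surjective ψ) :
    letI := ψ.toRingHom.toAlgebra
    ∃ d : ℕ, DRing.IsPerfect (MvPolynomial (Fin n) R) (Dual.inD (MvPolynomial (Fin n) R) A) ∧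
      DRing.HasTorAmplitudeIn (MvPolynomial (Fin n) R) (-(d : ℤ)) 0 (Dual.inD (MvPolynomial (Fin n) R) A) := by
  letI := ψ.toRingHom.toAlgebra
  haveI : Module.Finite (MvPolynomial (Fin n) R) A :=
    Module.Finite.of_surjective (Algebra.linearMap (MvPolynomial (Fin n) R) A) hψ
  have h1 : PerfMorLib.TD ψ.toRingHom := PerfMorLib.td_mvPolynomial_fin n (by
    rw [← MvPolynomial.algebraMap_eq]; erw [ψ.comp_algebraMap]
    exact PerfMorLib.hasFiniteTorDim_iff.mp htd)
  obtain ⟨d, hd⟩ := PerfMorLib.hasFiniteTorDim_iff (A := MvPolynomial (Fin n) R) (B := A) |>.mpr h1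
  have hd' := (DRingLib.hasTorDimLE_iff_amp d A).mp hd
  have hpc := (Groth.Agent.S6942.result (MvPolynomial (Fin n) R) 0
    (Dual.inD (MvPolynomial (Fin n) R) A) A).2.2 inferInstance
  exact ⟨d, (DRingLib.isPerfect_iff _).mpr ((DRingLib.perf_iff _).mpr ⟨hpc, -(d : ℤ), 0, hd'⟩), hd'⟩

variable (htd : DRing.HasFiniteTorDim R A) (n : ℕ) (ψ : MvPolynomial (Fin n) R →ₐ[R] A)
  (hψ : Function.Surjective ψ) [DRing.HasLBaseChange (algebraMap R (MvPolynomial (Fin n) R))]
  (Rψ : Dual.D (MvPolynomial (Fin n) R) ⥤ Dual.D A) (adj : DRing.restrictD ψ.toRingHom ⊣ Rψ)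

include htd hψ adj

/-- A dual model in the case of finite tor dimension. -/
theorem exists_dual_model_of_perfect :
    ∃ (d : ℕ) (F : DRing.Cx (MvPolynomial (Fin n) R)), DRing.VanishesOutside F (-(d : ℤ)) 0 ∧ (∀ i, FProj (F.X i)) ∧
      Nonempty (DRing.toD F ≅ (DRing.restrictD ψ.toRingHom).obj (Dual.inD A A)) ∧
      Nonempty ((DRing.restrictD ψ.toRingHom).obj (Rψ.obj
        ((DRing.LBaseChange (algebraMap R (MvPolynomial (Fin n) R))).obj (Dual.inD R R))) ≅ DRing.toD (dualCx F)) := by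
  let P := MvPolynomial (Fin n) R
  letI := ψ.toRingHom.toAlgebra
  haveI : IsScalarTower R P A := .of_algebraMap_eq fun r => (ψ.commutes r).symm
  haveI : Module.Finite P A := Module.Finite.of_surjective (Algebra.linearMap P A) hψ
  let L := (DRing.LBaseChange (algebraMap R P)).obj (Dual.inD R R)
  obtain ⟨eL⟩ := nonempty_lbc_unit R P
  haveI : (Dual.inD R R).IsGE 0 :=
    inferInstanceAs (((DerivedCategory.singleFunctor (ModuleCat.{u} R) 0).obj _).IsGE 0)
  haveI : L.IsGE 0 := DualCxLib.isGE_bcD R P (Dual.inD R R) 0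
  obtain ⟨r⟩ := nonempty_restrictD_inD (algebraMap P A) (ModuleCat.of A A)
  obtain ⟨d, hp, hamp⟩ := exists_perfect_amp R A htd n ψ hψ
  obtain ⟨F, hFb, hF, ⟨eF⟩⟩ := exists_fProj_of_amplitude (m := -(d : ℤ)) (n := 0) (by omega)
    ((isPseudoCoherent'_iff _).1 ((perf_iff _).1 ((DRingLib.isPerfect_iff _).1 hp)).1 _) hamp
  let eF' := eF ≪≫ r.symm
  obtain ⟨e⟩ := nonempty_res_coind A 0 (isCoind_of_adj adj L) eL.symm
    (F := F) ⟨⟨-(d : ℤ), 0, hFb⟩, hF⟩ eF'
  exact ⟨d, F, hFb, hF, ⟨eF'⟩, ⟨e⟩⟩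

/-- Endomorphisms of the upper shriek of the base. -/
theorem end_shriekVia_self_of_perfect :
    Function.Bijective (fun a : A => a • 𝟙 (Dual2.shriekVia n Rψ (Dual.inD R R))) ∧
      ∀ i : ℤ, i ≠ 0 → Subsingleton (Dual2.shriekVia n Rψ (Dual.inD R R) ⟶
        (Dual2.shriekVia n Rψ (Dual.inD R R))⟦i⟧) := by
  let P := MvPolynomial (Fin n) R
  letI := ψ.toRingHom.toAlgebra
  obtain ⟨d, F, hFb, hF, ⟨eF⟩, ⟨eW⟩⟩ := exists_dual_model_of_perfect R A htd n ψ hψ Rψ adj
  obtain ⟨eL⟩ := nonempty_lbc_unit R P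
  let V := Rψ.obj ((DRing.LBaseChange (algebraMap R P)).obj (Dual.inD R R))
  obtain ⟨h1, h2⟩ := end_coind hψ ((isCoind_of_adj adj _).of_iso eL (Iso.refl V)) ⟨⟨-(d : ℤ), 0, hFb⟩, hF⟩
    (fun i hi => hFb i (Or.inr hi)) eF eW
  let k : ℤ := n
  refine ⟨?_, fun i hi => ?_⟩
  · have hfun : (fun a : A => a • 𝟙 (V⟦k⟧)) =
        (fun g : V ⟶ V => (shiftFunctor (Dual.D A) k).map g) ∘ (fun a : A => a • 𝟙 V) := by
      funext a
      show a • 𝟙 (V⟦k⟧) = (shiftFunctor (Dual.D A) k).map (a • 𝟙 V)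
      rw [Functor.map_smul, CategoryTheory.Functor.map_id]
    show Function.Bijective fun a : A => a • 𝟙 (V⟦k⟧)
    rw [hfun]
    exact Function.Bijective.comp ⟨Functor.map_injective _, Functor.map_surjective _⟩ h1
  · haveI := h2 i hi
    refine subsingleton_of_forall_eq 0 fun (g : V⟦k⟧ ⟶ V⟦k⟧⟦i⟧) => ?_
    obtain ⟨q, hq⟩ := (shiftFunctor (Dual.D A) k).map_surjective (g ≫ ((shiftFunctorComm (Dual.D A) k i).app V).hom)
    rw [Subsingleton.elim q 0, Functor.map_zero] at hq
    exact (cancel_mono ((shiftFunctorComm (Dual.D A) k i).app V).hom).1 (hq.symm.trans zero_comp.symm)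

/-- The upper shriek preserves boundedness from above. -/
theorem exists_upper_bound_shriekVia (K : Dual.D R) (l : ℤ) [K.IsLE l] :
    ∃ b : ℤ, ∀ i : ℤ, b < i → Subsingleton (Dual.HD A (Dual2.shriekVia n Rψ K) i) := by
  let P := MvPolynomial (Fin n) R
  letI := ψ.toRingHom.toAlgebra
  let L := (DRing.LBaseChange (algebraMap R P)).obj K
  haveI : L.IsLE l := DualCxLib.isLE_bcD R P K l
  haveI : (L⟦(n : ℤ)⟧).IsLE (l - n) := DerivedCategory.TStructure.t.isLE_shift L l n (l - n) (by omega)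
  obtain ⟨d, hp, -⟩ := exists_perfect_amp R A htd n ψ hψ
  have hA : Perf FProj ((DRing.restrictD ψ.toRingHom).obj (Dual.inD A A)) := by
    obtain ⟨e⟩ := nonempty_restrictD_inD ψ.toRingHom (ModuleCat.of A A)
    exact ((DRingLib.isPerfect_iff _).1 hp).of_iso e.symm
  exact exists_upper_bound_coind (L⟦(n : ℤ)⟧) ψ.toRingHom ((isCoind_of_adj adj L).shift n) (l - n) hA

end Groth.Agent.ShriekBridge
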