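import Groth.Agent.ShriekBridge.Chart
import Groth.Agent.TwistShriek.ProjTrace
import Groth.Agent.TwistShriek.PerfPull
import Groth.Agent.S7865
import Groth.Agent.S3600
import Groth.Agent.FMPerfLib.Bounded
import Groth.Agent.DCohLib.LpullTensor

/-!
# The upper shriek of affine space
-/

set_option autoImplicit false
set_option linter.style.haveILetI false
set_option linter.unusedSectionVars false
set_option backward.isDefEq.respectTransparency false
set_option maxHeartbeats 2000000

universe u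

open CategoryTheory CategoryTheory.Limits AlgebraicGeometry
open Groth.Agent.DCohLib Groth.Agent.DCohMore Groth.Agent.TwistShriek

attribute [local instance] HasDerivedCategory.standard

noncomputable section

namespace Groth.Agent.ShriekBridge

/-- Tensoring with a shifted structure sheaf is a shift. -/
theorem nonempty_lTensor_shift_structure {X : Scheme.{u}} (W : CochainComplex X.Modules ℤ) [DCoh.HasLTensorCx W]
    (n : ℤ) (hW : Nonempty (DCoh.toD X W ≅ (DCoh.inD X (Coh.structureModule X))⟦n⟧)) (M : DCoh.D X) :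
    Nonempty ((DCoh.LTensorCx W).obj M ≅ M⟦n⟧) := by
  obtain ⟨e⟩ := hW
  let P := (resX X).obj (DerivedCategory.Q.objPreimage M)
  have hP : DCoh.IsKFlat P := isKFlat_resX _
  haveI : DCoh.HasLTensorCx P := DCohLib.hasLTensorCx _
  let eP : DCoh.toD X P ≅ M := resXIso M
  obtain ⟨s⟩ := RelPCLib.nonempty_lTensor_symm W P
  obtain ⟨t⟩ := nonempty_lTensor_inD_structure P
  exact ⟨(DCoh.LTensorCx W).mapIso eP.symm ≪≫ s ≪≫ (DCoh.LTensorCx P).mapIso e ≪≫
    FMPerfLib.lTensorShift P hP _ n ≪≫ (shiftFunctor (DCoh.D X) n).mapIso (t ≪≫ eP)⟩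

variable (n : ℕ) (R : Type u) [CommRing R]

local notation "π" => CohB1.ProjSpace.toSpec n R
local notation "P" => CohB1.ProjSpace n R
local notation "MP" => MvPolynomial (Fin n) R

/-- The right adjoint of the direct image from projective space, on the affine chart. -/
theorem nonempty_shriek_chart [IsNoetherianRing R] [DCoh.HasRpush π] (h : DCoh.RpushPreservesQCoh π)
    (a : DCoh.DQCoh (Spec (CommRingCat.of R)) ⥤ DCoh.DQCoh P) (adj : DCoh.RpushQ π h ⊣ a)
    [DCoh.HasLpull (Spec.map (CommRingCat.ofHom (algebraMap R MP)))]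
    (K : DCoh.DQCoh (Spec (CommRingCat.of R))) :
    Nonempty ((DCoh.restrictD (chartP n R)).obj (a.obj K).obj ≅
      ((DCoh.Lpull (Spec.map (CommRingCat.ofHom (algebraMap R MP)))).obj K.obj)⟦(n : ℤ)⟧) := by
  let j := chartP n R
  let g := Spec.map (CommRingCat.ofHom (algebraMap R MP))
  haveI : IsProper π := CompleteCurve.isProper_toSpec n R
  haveI : Flat π := flat_toSpec n R
  haveI : LocallyOfFinitePresentation π := lfp_toSpec n R
  haveI : CompactSpace P := QuasiCompact.compactSpace_of_compactSpace π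
  haveI : QuasiSeparatedSpace P := quasiSeparatedSpace_of_quasiSeparated π
  haveI := hasLpull π; haveI := hasLpull j; haveI := hasLpull (j ≫ π)
  haveI : PreservesFiniteLimits (tilde.functor (CommRingCat.of R)) := TildeD.preservesFiniteLimits_tilde
  let O : DCoh.DQCoh (Spec (CommRingCat.of R)) :=
    ⟨DCoh.inD _ (Coh.structureModule _), isQCohD_of_isPerfect (isPerfect_inD (BCLib.isFinLocFree_structureModule _))⟩
  obtain ⟨eA⟩ := nonempty_rightAdjoint_projSpace n R h a adj O (Iso.refl _)
  let E := (resX P).obj (DerivedCategory.Q.objPreimage (a.obj O).obj)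
  have hE : DCoh.IsKFlat E := isKFlat_resX _
  let eE : DCoh.toD P E ≅ (a.obj O).obj := resXIso _
  haveI : DCoh.HasLTensorCx E := DCohLib.hasLTensorCx _
  obtain ⟨ea⟩ := S7865.result _ _ π h a adj (fun J => S3600.result _ _ π h a adj J) O ⟨Iso.refl _⟩ E ⟨eE⟩
  let E' := (pullCx j).obj E
  haveI : DCoh.HasLTensorCx E' := DCohLib.hasLTensorCx _
  obtain ⟨l⟩ := nonempty_lpull_lTensor j E hE ((DCoh.Lpull π).obj K.obj)
  obtain ⟨c⟩ := nonempty_lpullCompIso j π
  obtain ⟨t⟩ := nonempty_pullback_chart_twist n R (-((n : ℤ) + 1))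
  let R' := DCoh.restrictD j
  let N := Twist.twistProjSpace n R (-((n : ℤ) + 1))
  let eS : DCoh.toD _ E' ≅ (DCoh.inD _ (Coh.structureModule _))⟦(n : ℤ)⟧ :=
    (lpullIsoK j E hE).symm ≪≫ (lpullRestrictNatIso j).app _ ≪≫ R'.mapIso (eE ≪≫ eA) ≪≫
      (R'.commShiftIso (n : ℤ)).app _ ≪≫ (shiftFunctor _ (n : ℤ)).mapIso
        (((Scheme.Modules.restrictFunctor j).mapDerivedCategorySingleFunctor 0).app N ≪≫
          (DerivedCategory.singleFunctor _ 0).mapIso ((Scheme.Modules.restrictFunctorIsoPullback j).app N ≪≫ t))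
  obtain ⟨s⟩ := nonempty_lTensor_shift_structure E' (n : ℤ) ⟨eS⟩ ((DCoh.Lpull g).obj K.obj)
  exact ⟨((lpullRestrictNatIso j).app _).symm ≪≫ (DCoh.Lpull j).mapIso (ea.app K) ≪≫ l ≪≫
    (DCoh.LTensorCx E').mapIso (c.app K.obj ≪≫ (eqToIso (by simp only [chartP_toSpec, g, j])).app K.obj) ≪≫ s⟩

end Groth.Agent.ShriekBridge
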